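import Groth.Agent.GrTildeLib.Chart
import Groth.Agent.TwistLib.Basic

/-!
# `O(n)` is the sheaf of the graded ring itself
-/

set_option autoImplicit false
universe u

open CategoryTheory CategoryTheory.Limits AlgebraicGeometry TopologicalSpace Opposite TopCat

noncomputable section

namespace GrTildeLib

variable {R A : Type u} [CommRing R] [CommRing A] [Algebra R A] (𝒜 : ℕ → Submodule R A) [GradedAlgebra 𝒜]

instance gradedSMulSelf : SetLike.GradedSMul 𝒜 𝒜 := ⟨fun _ _ _ _ h h' => SetLike.mul_mem_graded h h'⟩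

variable {𝒜} {n : ℤ}

theorem twistAt_le (x : ProjectiveSpectrum 𝒜) {q : Twist.Loc 𝒜 x} (h : q ∈ Twist.twistAt 𝒜 n x) :
    (q : GrTilde.LocMod 𝒜 (M := A) x) ∈ GrTilde.tildeAt 𝒜 𝒜 n x := by
  induction h using Submodule.span_induction with
  | mem q hq => exact Submodule.subset_span hq
  | zero => exact zero_mem _
  | add a b _ _ ha hb => exact add_mem ha hb
  | smul c a _ ha => exact Submodule.smul_mem _ c ha

theorem tildeAt_le (x : ProjectiveSpectrum 𝒜) {q : GrTilde.LocMod 𝒜 (M := A) x}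
    (h : q ∈ GrTilde.tildeAt 𝒜 𝒜 n x) : (q : Twist.Loc 𝒜 x) ∈ Twist.twistAt 𝒜 n x := by
  induction h using Submodule.span_induction with
  | mem q hq => exact Submodule.subset_span hq
  | zero => exact zero_mem _
  | add a b _ _ ha hb => exact add_mem ha hb
  | smul c a _ ha => exact Submodule.smul_mem _ c ha

/-- the identification of sections -/
def toTilde {V : (Proj 𝒜).Opens} (t : Γ(Twist.twist 𝒜 n, V)) : Γ(GrTilde.tilde 𝒜 𝒜 n, V) :=
  (⟨fun x => ⟨TwistLib.val t x, twistAt_le x.1 ((show Twist.sectN (𝒜 := 𝒜) n (op V) from t).1 x).2⟩,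
    fun x => by
      obtain ⟨W, hxW, ι, i, j, a, s, hnin, hd, hw⟩ := (show Twist.sectN (𝒜 := 𝒜) n (op V) from t).2 x
      exact ⟨W, hxW, ι, i, j, a, s, hnin, hd, fun y => hw y⟩⟩ : GrTilde.sect 𝒜 𝒜 n (op V))

/-- its inverse -/
def ofTilde {V : (Proj 𝒜).Opens} (t : Γ(GrTilde.tilde 𝒜 𝒜 n, V)) : Γ(Twist.twist 𝒜 n, V) :=
  (⟨fun x => ⟨val t x, tildeAt_le x.1 ((show GrTilde.sect 𝒜 𝒜 n (op V) from t).1 x).2⟩,
    fun x => by
      obtain ⟨W, hxW, ι, i, j, a, s, hnin, hd, hw⟩ := (show GrTilde.sect 𝒜 𝒜 n (op V) from t).2 x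
      exact ⟨W, hxW, ι, i, j, a, s, hnin, hd, fun y => hw y⟩⟩ : Twist.sectN (𝒜 := 𝒜) n (op V))

theorem isQCoh_twist (n : ℤ) : Coh.IsQCoh (Twist.twist 𝒜 n) := by
  refine QCohLib.isQCoh_of_localizingAt _ (fun t : Σ d : {d : ℕ // 0 < d}, 𝒜 d.1 => Proj.basicOpen 𝒜 (t.2 : A))
    (fun t => Proj.isAffineOpen_basicOpen 𝒜 _ t.2.2 t.1.2) (ProjTopLib.iSup_pos_basicOpen 𝒜) fun t c => ?_
  obtain ⟨hE, hZ⟩ := localizingAt (ℳ := 𝒜) (n := n) t.1.2 t.2.2 c
  constructor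
  · intro s
    obtain ⟨k, u, hu⟩ := hE (toTilde s)
    exact ⟨k, ofTilde u, TwistLib.sec_ext fun y => congrArg (fun z => val z y) hu⟩
  · intro s hs
    obtain ⟨k, hk⟩ := hZ (toTilde s) (sec_ext fun y => congrArg (fun z => TwistLib.val z y) hs)
    exact ⟨k, TwistLib.sec_ext fun y => congrArg (fun z => val z y) hk⟩

end GrTildeLib

end
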