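import Groth.Agent.GrTildeLib.Vanish
import Groth.Agent.QCohLib.AffineFinite
import Mathlib.RingTheory.IntegralClosure.IsIntegralClosure.Basic

/-!
# Finite type
-/

set_option autoImplicit false
universe u

open CategoryTheory CategoryTheory.Limits AlgebraicGeometry TopologicalSpace Opposite TopCat HomogeneousLocalization

noncomputable section

namespace GrTildeLib

variable {R A : Type u} [CommRing R] [CommRing A] [Algebra R A] (𝒜 : ℕ → Submodule R A) [GradedAlgebra 𝒜]

open scoped Classical in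
/-- homogeneous elements generating `A` over the degrees divisible by `d` -/
theorem exists_veronese_gens (hfg : (HomogeneousIdeal.irrelevant 𝒜).toIdeal.FG) {d : ℕ} (hd : 0 < d) :
    ∃ (μ : Finset A) (deg : A → ℕ), (∀ x ∈ μ, x ∈ 𝒜 (deg x)) ∧
      ∀ (D : ℕ) (a : A), a ∈ 𝒜 D → ∃ b : A → A,
        (∀ x ∈ μ, deg x ≤ D → d ∣ D - deg x → b x ∈ 𝒜 (D - deg x)) ∧
          a = ∑ x ∈ μ with deg x ≤ D ∧ d ∣ D - deg x, b x * x := by
  obtain ⟨s, hs, hspan⟩ := ProjTopLib.exists_homogeneous_gens 𝒜 hfg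
  have hadj := ProjTopLib.adjoin_eq_top_of_span 𝒜 hs hspan.le
  let B := Algebra.adjoin (𝒜 0) ((fun e : A => e ^ d) '' (s : Set A))
  let C : Submodule R A := ⨆ l : ℕ, 𝒜 (l * d)
  have hmulC : ∀ a b : A, a ∈ C → b ∈ C → a * b ∈ C := fun a b ha hb => by
    induction ha using Submodule.iSup_induction' with
    | mem l a ha =>
      induction hb using Submodule.iSup_induction' with
      | mem l' b hb => exact Submodule.mem_iSup_of_mem (l + l') (by rw [add_mul]; exact SetLike.mul_mem_graded ha hb)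
      | zero => rw [mul_zero]; exact zero_mem _
      | add x y _ _ hx hy => rw [mul_add]; exact add_mem hx hy
    | zero => rw [zero_mul]; exact zero_mem _
    | add x y _ _ hx hy => rw [add_mul]; exact add_mem hx hy
  have hBC : ∀ b ∈ B, b ∈ C := fun b hb => by
    induction hb using Algebra.adjoin_induction with
    | mem e he =>
      obtain ⟨e', he', rfl⟩ := he
      obtain ⟨k, -, hk⟩ := hs e' he'
      exact Submodule.mem_iSup_of_mem k (by
        rw [mul_comm]; simpa using SetLike.pow_mem_graded d hk)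
    | algebraMap r => exact Submodule.mem_iSup_of_mem 0 (by rw [zero_mul]; exact r.2)
    | add a b _ _ ha hb => exact add_mem ha hb
    | mul a b _ _ ha hb => exact hmulC a b ha hb
  have : Algebra.FiniteType (𝒜 0) A := ⟨⟨s, hadj⟩⟩
  have : Algebra.FiniteType B A := Algebra.FiniteType.of_restrictScalars_finiteType (𝒜 0) B A
  have : Algebra.IsIntegral B A := ⟨fun a => by
    have ha : a ∈ Algebra.adjoin (𝒜 0) (s : Set A) := hadj ▸ trivial
    induction ha using Algebra.adjoin_induction with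
    | mem e he =>
      refine IsIntegral.of_pow hd ?_
      exact isIntegral_algebraMap (x := (⟨e ^ d, Algebra.subset_adjoin ⟨e, he, rfl⟩⟩ : B))
    | algebraMap r =>
      rw [IsScalarTower.algebraMap_apply (𝒜 0) B A]
      exact isIntegral_algebraMap
    | add a b _ _ ha hb => exact ha.add hb
    | mul a b _ _ ha hb => exact ha.mul hb⟩
  obtain ⟨G, hG⟩ := Module.finite_def.mp (Algebra.IsIntegral.finite (R := B) (A := A))
  let μ : Finset A := G.biUnion fun g => (DirectSum.decompose 𝒜 g).support.image fun k => (DirectSum.decompose 𝒜 g k : A)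
  have hμ : ∀ x ∈ μ, ∃ k, x ∈ 𝒜 k := fun x hx => by
    simp only [μ, Finset.mem_biUnion, Finset.mem_image] at hx
    obtain ⟨g, -, k, -, rfl⟩ := hx
    exact ⟨k, SetLike.coe_mem _⟩
  choose! deg hdeg using hμ
  refine ⟨μ, deg, hdeg, fun D a ha => ?_⟩
  have hspanμ : a ∈ Submodule.span B (μ : Set A) := by
    have h1 : Submodule.span B (G : Set A) ≤ Submodule.span B (μ : Set A) := by
      rw [Submodule.span_le]
      intro g hg
      rw [SetLike.mem_coe, ← DirectSum.sum_support_decompose 𝒜 g]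
      exact Submodule.sum_mem _ fun k hk => Submodule.subset_span (by
        simp only [μ, Finset.coe_biUnion, Finset.coe_image, Set.mem_iUnion, Set.mem_image]
        exact ⟨g, hg, k, hk, rfl⟩)
    exact h1 (hG ▸ trivial)
  obtain ⟨c, -, hc⟩ := Submodule.mem_span_finset.mp hspanμ
  refine ⟨fun x => if deg x ≤ D then (DirectSum.decompose 𝒜 (c x : A) (D - deg x) : A) else 0,
    fun x _ hle _ => by simp only [if_pos hle]; exact SetLike.coe_mem _, ?_⟩
  rw [← DirectSum.decompose_of_mem_same 𝒜 ha]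
  conv_lhs => rw [← hc, DirectSum.decompose_sum, DFinsupp.finsetSum_apply, Submodule.coe_sum]
  rw [Finset.sum_filter]
  refine Finset.sum_congr rfl fun x hx => ?_
  rw [Subalgebra.smul_def, smul_eq_mul]
  by_cases hle : deg x ≤ D
  · rw [DirectSum.coe_decompose_mul_of_right_mem_of_le 𝒜 (hdeg x hx) hle]
    simp only [if_pos hle]
    split_ifs with h
    · rfl
    · have h0 : (DirectSum.decompose 𝒜 (c x : A) (D - deg x) : A) = 0 := by
        have hnd : ¬ d ∣ D - deg x := fun h' => h ⟨hle, h'⟩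
        have hC := hBC _ (c x).2
        generalize (c x : A) = y at hC ⊢
        induction hC using Submodule.iSup_induction' with
        | mem l y hy => exact DirectSum.decompose_of_mem_ne 𝒜 hy fun e => hnd ⟨l, by rw [← e, mul_comm]⟩
        | zero => simp
        | add y z _ _ hy hz => rw [DirectSum.decompose_add, DirectSum.add_apply, Submodule.coe_add, hy, hz, add_zero]
      rw [h0, zero_mul]
  · rw [DirectSum.coe_decompose_mul_of_right_mem_of_not_le 𝒜 (hdeg x hx) hle, if_neg (fun h => hle h.1)]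

variable {M : Type u} [AddCommGroup M] [Module R M] [Module A M] {ℳ : ℕ → Submodule R M} [SetLike.GradedSMul 𝒜 ℳ]
  [DirectSum.Decomposition ℳ]

variable {𝒜} in
theorem val_sum {V : (Proj 𝒜).Opens} {n : ℤ} {ι : Type*} (t : Finset ι) (g : ι → Γ(GrTilde.tilde 𝒜 ℳ n, V)) (x : V) :
    val (∑ i ∈ t, g i) x = ∑ i ∈ t, val (g i) x := by
  classical
  induction t using Finset.induction_on with
  | empty => simp [val_zero]
  | insert a t ha ih => rw [Finset.sum_insert ha, Finset.sum_insert ha, val_add, ih]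

variable {𝒜} in
theorem mk_sum {x : ProjectiveSpectrum 𝒜} {ι : Type*} (t : Finset ι) (g : ι → M)
    (s : x.asHomogeneousIdeal.toIdeal.primeCompl) :
    (LocalizedModule.mk (∑ i ∈ t, g i) s : GrTilde.LocMod 𝒜 x) = ∑ i ∈ t, LocalizedModule.mk (g i) s := by
  classical
  induction t using Finset.induction_on with
  | empty => simp [LocalizedModule.zero_mk]
  | insert a t ha ih =>
    rw [Finset.sum_insert ha, Finset.sum_insert ha, ← ih, LocalizedModule.mk_add_mk]
    refine mk_congr ?_
    simp only [Submonoid.smul_def, Submonoid.coe_mul, smul_add, smul_smul]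

theorem isFT_tilde (hfg : (HomogeneousIdeal.irrelevant 𝒜).toIdeal.FG)
    (hTF : ∃ n : ℕ, (Submodule.span A (⋃ k ∈ Set.Ici n, (ℳ k : Set M))).FG) :
    CohB1.IsFT (GrTilde.tilde 𝒜 ℳ 0) := by
  classical
  have := isQCoh_tilde (𝒜 := 𝒜) (ℳ := ℳ) 0
  refine QCohLib.isFT_of_finite fun x => ?_
  obtain ⟨d, f, hd, hf, hfx⟩ := ProjTopLib.exists_pos_not_mem 𝒜 x
  refine ⟨Proj.basicOpen 𝒜 f, Proj.isAffineOpen_basicOpen 𝒜 f hf hd, hfx, ?_⟩
  obtain ⟨n, s, hs, hgens⟩ := exists_tail_gens hTF
  choose! degz hdegn hdegz using hs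
  obtain ⟨μ, degμ, hdegμ, hμ⟩ := exists_veronese_gens 𝒜 hfg hd
  let e : A × M → Γ(GrTilde.tilde 𝒜 ℳ 0, Proj.basicOpen 𝒜 f) := fun p =>
    if h : p.1 ∈ μ ∧ p.2 ∈ s ∧ d ∣ degμ p.1 + degz p.2 then
      fracSec (show p.1 • p.2 ∈ ℳ (degμ p.1 + degz p.2) from
          SetLike.GradedSMul.smul_mem (hdegμ _ h.1) (hdegz _ h.2.1))
        (SetLike.pow_mem_graded ((degμ p.1 + degz p.2) / d) hf)
        (by rw [smul_eq_mul, Nat.div_mul_cancel h.2.2, add_zero]) (fun y => pow_nin y _)
    else 0
  refine Module.Finite.of_fg_top ⟨(μ ×ˢ s).image e, eq_top_iff.mpr fun t _ => ?_⟩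
  obtain ⟨k, i, m, hm, hi, ht⟩ := exists_eq_frac hd hf t
  have hi' : i = k * d := by omega
  subst hi'
  let K := k + n
  have hm' : f ^ n • m ∈ ℳ (K * d) := by
    have h1 : f ^ n • m ∈ ℳ (n * d + k * d) := SetLike.GradedSMul.smul_mem (SetLike.pow_mem_graded n hf) hm
    rwa [show K * d = n * d + k * d by ring]
  have hKn : n ≤ K * d := (Nat.le_add_left n k).trans (Nat.le_mul_of_pos_right _ hd)
  obtain ⟨a, ha, hsum⟩ := exists_homogeneous_coeff (𝒜 := 𝒜) hdegz hm' (hgens _ hKn _ hm')
  choose b hb hbsum using fun z (hz : z ∈ s ∧ degz z ≤ K * d) => hμ _ (a z) (ha z hz.1 hz.2)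
  let T := (μ ×ˢ s).filter fun p => degz p.2 ≤ K * d ∧ degμ p.1 ≤ K * d - degz p.2 ∧ d ∣ K * d - degz p.2 - degμ p.1
  let coef : A × M → Γ(Proj 𝒜, Proj.basicOpen 𝒜 f) := fun p =>
    if h : p.1 ∈ μ ∧ (p.2 ∈ s ∧ degz p.2 ≤ K * d) ∧ degμ p.1 ≤ K * d - degz p.2 ∧ d ∣ K * d - degz p.2 - degμ p.1 then
      Proj.awayToSection 𝒜 f (Away.mk 𝒜 hf ((K * d - degz p.2 - degμ p.1) / d) (b p.2 h.2.1 p.1)
        (by rw [smul_eq_mul, Nat.div_mul_cancel h.2.2.2]; exact hb p.2 h.2.1 p.1 h.1 h.2.2.1 h.2.2.2))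
    else 0
  have key : t = ∑ p ∈ T, coef p • e p := by
    refine sec_ext fun y => ?_
    rw [val_sum]
    have hterm : ∀ p ∈ T, val (coef p • e p) y =
        LocalizedModule.mk ((if h : p.2 ∈ s ∧ degz p.2 ≤ K * d then b p.2 h p.1 * p.1 else 0) • p.2)
          ⟨f ^ K, pow_nin y K⟩ := by
      intro p hp
      obtain ⟨hmem, h1, h2, h3⟩ := Finset.mem_filter.mp hp
      obtain ⟨hpμ, hps⟩ := Finset.mem_product.mp hmem
      have h3' := h3
      obtain ⟨l, hl⟩ := h3
      have hlK : l ≤ K := by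
        refine le_of_mul_le_mul_left (a := d) ?_ hd
        rw [← hl, mul_comm]; omega
      have hsum' : degμ p.1 + degz p.2 = d * (K - l) := by
        rw [Nat.mul_sub, ← hl, mul_comm d K]; omega
      have hdvd : d ∣ degμ p.1 + degz p.2 := ⟨_, hsum'⟩
      simp only [coef, e, dif_pos (And.intro hpμ (And.intro (And.intro hps h1) (And.intro h2 h3'))),
        dif_pos (And.intro hpμ (And.intro hps hdvd)), dif_pos (And.intro hps h1)]
      rw [val_smul, val_fracSec]
      erw [val_awayToSection, LocalizedModule.mk_smul_mk]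
      refine mk_congr ?_
      change f ^ K • b p.2 _ p.1 • p.1 • p.2 = (f ^ ((K * d - degz p.2 - degμ p.1) / d) *
        f ^ ((degμ p.1 + degz p.2) / d)) • (b p.2 _ p.1 * p.1) • p.2
      have e1 : (K * d - degz p.2 - degμ p.1) / d = l := by rw [hl, Nat.mul_div_cancel_left _ hd]
      have e2 : (degμ p.1 + degz p.2) / d = K - l := by rw [hsum', Nat.mul_div_cancel_left _ hd]
      simp only [e1, e2, ← pow_add, Nat.add_sub_cancel' hlK, mul_smul]
    rw [Finset.sum_congr rfl hterm, ← mk_sum, ht y]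
    refine mk_congr ?_
    change f ^ K • m = f ^ k • _
    rw [pow_add, mul_smul, hsum]
    congr 1
    simp only [T, Finset.sum_filter, Finset.sum_product]
    rw [Finset.sum_comm]
    refine Finset.sum_congr rfl fun z hz => ?_
    by_cases hle : degz z ≤ K * d
    · rw [if_pos hle, hbsum z ⟨hz, hle⟩, Finset.sum_smul, Finset.sum_filter]
      refine Finset.sum_congr rfl fun x _ => ?_
      simp only [hle, hz, true_and, and_self, dite_true]
    · rw [if_neg hle]
      exact (Finset.sum_eq_zero fun x _ => if_neg fun h => hle h.1).symm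
  rw [key]
  exact Submodule.sum_mem _ fun p hp => Submodule.smul_mem _ _ (Submodule.subset_span
    (Finset.mem_coe.mpr (Finset.mem_image_of_mem _ (Finset.mem_filter.mp hp).1)))

end GrTildeLib

end
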