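import Groth.Agent.AmpleLib.Powers
import Groth.Agent.TwistLib.PullGen

/-!
# Morphisms out of a tensor product from bilinear maps
-/

set_option autoImplicit false
universe u

open CategoryTheory CategoryTheory.Limits AlgebraicGeometry TopologicalSpace Opposite MonoidalCategory TensorProduct
open AmpleLib (res GenAt shT)

noncomputable section

namespace GrTildeLib

variable {X : Scheme.{u}} {M N P : X.Modules}

theorem exists_tens_hom (b : ∀ V : X.Opens, Γ(M, V) → Γ(N, V) → Γ(P, V))
    (haddl : ∀ V m m' n, b V (m + m') n = b V m n + b V m' n)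
    (haddr : ∀ V m n n', b V m (n + n') = b V m n + b V m n')
    (hsmull : ∀ (V : X.Opens) (r : Γ(X, V)) m n, b V (r • m) n = r • b V m n)
    (hsmulr : ∀ (V : X.Opens) (r : Γ(X, V)) m n, b V m (r • n) = r • b V m n)
    (hres : ∀ (V W : X.Opens) (h : V ≤ W) m n, res P h (b W m n) = b V (res M h m) (res N h n)) :
    ∃ φ : CohB1.tensorMod M N ⟶ P, ∀ (V : X.Opens) m n, φ.app V (shT m n) = b V m n := by
  let PM' : PresheafOfModules (X.ringCatSheaf.obj) :=
    (SheafOfModules.forget.{u} X.ringCatSheaf ⋙ PresheafOfModules.restrictScalars (𝟙 X.ringCatSheaf.obj)).obj P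
  let app : ∀ V : X.Opens, ((KFlatLib.pT M N).obj (op V)) →+ Γ(P, V) := fun V =>
    TensorProduct.liftAddHom (R := Γ(X, V))
      (AddMonoidHom.mk' (fun m : Γ(M, V) => AddMonoidHom.mk' (fun n : Γ(N, V) => b V m n) (haddr V m))
        (fun m m' => AddMonoidHom.ext fun n => haddl V m m' n))
      (fun r m n => (hsmull V r m n).trans (hsmulr V r m n).symm)
  have happ : ∀ (V : X.Opens) (m : Γ(M, V)) (n : Γ(N, V)),
      app V (KFlatLib.tm (DCoh.toP.obj M : KFlatLib.PM X.presheaf) (DCoh.toP.obj N : KFlatLib.PM X.presheaf) m n) =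
        b V m n := fun V m n => rfl
  let ψ : (KFlatLib.pT M N : X.PresheafOfModules) ⟶ PM' :=
    PresheafOfModules.homMk
      { app := fun V => AddCommGrpCat.ofHom (app V.unop)
        naturality := fun V W i => by
          ext s
          induction s using KFlatLib.tm_induction (U := V.unop) with
          | zero => exact (map_zero _).trans (map_zero _).symm
          | tmul m n =>
            refine Eq.trans (congrArg (app W.unop) (KFlatLib.rst_tm (P := (DCoh.toP.obj M : KFlatLib.PM X.presheaf))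
              (Q := (DCoh.toP.obj N : KFlatLib.PM X.presheaf)) i.unop.le m n)) ?_
            exact (happ W.unop _ _).trans (hres W.unop V.unop i.unop.le m n).symm
          | add s t hs ht => exact (map_add _ _ _).trans ((congr_arg₂ _ hs ht).trans (map_add _ _ _).symm) }
      (fun V r s => by
        suffices hlin : ∀ (W : X.Opens) (c : Γ(X, W)) (t : (KFlatLib.pT M N).obj (op W)),
            app W (c • t) = c • app W t from hlin V.unop r s
        intro W c t
        induction t using KFlatLib.tm_induction (U := W) with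
        | zero =>
          have h0 : c • (0 : (KFlatLib.pT M N).obj (op W)) = 0 := smul_zero c
          exact (congrArg (app W) h0).trans ((map_zero _).trans ((congrArg (c • ·) (map_zero (app W))).trans (smul_zero c)).symm)
        | tmul m n => exact hsmull W c m n
        | add s t hs ht =>
          have h0 : c • (s + t) = c • s + c • t := smul_add c s t
          exact (congrArg (app W) h0).trans ((map_add _ _ _).trans ((congr_arg₂ (· + ·) hs ht).trans
            ((congrArg (c • ·) (map_add (app W) s t)).trans (smul_add c _ _)).symm)))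
  let adj := PresheafOfModules.sheafificationAdjunction.{u} (R := X.ringCatSheaf) (𝟙 X.ringCatSheaf.obj)
  refine ⟨(adj.homEquiv _ P).symm ψ, fun V m n => ?_⟩
  have e := congr($((adj.homEquiv (KFlatLib.pT M N : X.PresheafOfModules) P).apply_symm_apply ψ).app (op V)
    (KFlatLib.tm (DCoh.toP.obj M : KFlatLib.PM X.presheaf) (DCoh.toP.obj N : KFlatLib.PM X.presheaf) m n))
  rw [Adjunction.homEquiv_unit] at e
  exact e.trans (happ V m n)

theorem bijective_tmul_gen {S : Type u} [CommRing S] {A B : Type u} [AddCommGroup A] [Module S A]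
    [AddCommGroup B] [Module S B] (g : B) (h : Function.Bijective fun c : S => c • g) :
    Function.Bijective fun a : A => a ⊗ₜ[S] g := by
  let e : S ≃ₗ[S] B := LinearEquiv.ofBijective (LinearMap.toSpanSingleton S B g) h
  have hE : (fun a : A => a ⊗ₜ[S] g) =
      fun a => TensorProduct.congr (LinearEquiv.refl S A) e ((TensorProduct.rid S A).symm a) :=
    funext fun a => by simp [e, TensorProduct.rid_symm_apply]
  rw [hE]
  exact (TensorProduct.congr (LinearEquiv.refl S A) e).bijective.comp (TensorProduct.rid S A).symm.bijective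

theorem isIso_of_bilin (φ : CohB1.tensorMod M N ⟶ P)
    (h : ∀ x : X, ∃ (D : X.Opens) (hx : x ∈ D) (e : Γ(N, D)), GenAt N e hx ∧
      ∀ (V : X.Opens) (hV : V ≤ D), Function.Bijective fun a : Γ(M, V) => φ.app V (shT a (res N hV e))) :
    IsIso φ := by
  refine KFlatLib.isIso_of_stalks φ fun x => ?_
  obtain ⟨D, hx, e, he, hb⟩ := h x
  let f := ((DerSch.stalkFunctor X x).map φ).hom
  refine (ConcreteCategory.isIso_iff_bijective _).mpr ?_
  let τ : M.presheaf.stalk x → (CohB1.tensorMod M N).presheaf.stalk x := fun a =>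
    KFlatLib.stalkTensorLin M N x (a ⊗ₜ N.presheaf.germ D x hx e)
  have hτ : Function.Bijective τ := (KFlatLib.stalkTensorLin_bijective M N x).comp
    (bijective_tmul_gen (S := X.presheaf.stalk x) (A := M.presheaf.stalk x) _ he)
  refine (Function.Bijective.of_comp_iff f hτ).mp ?_
  have key : ∀ (V : X.Opens) (hxV : x ∈ V) (hV : V ≤ D) (a : Γ(M, V)),
      f (τ (M.presheaf.germ V x hxV a)) = P.presheaf.germ V x hxV (φ.app V (shT a (res N hV e))) := by
    intro V hxV hV a
    change f (KFlatLib.stalkTensorLin M N x (_ ⊗ₜ N.presheaf.germ D x hx e)) = _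
    rw [← AmpleLib.germ_res N hV e hxV, KFlatLib.stalkTensorLin_germ]
    exact DerSch.stalkFunctor_map_germ x φ V hxV (shT a (res N hV e))
  refine ⟨fun a a' haa => ?_, fun p => ?_⟩
  · obtain ⟨U, hU, t, rfl⟩ := M.presheaf.exists_germ_eq (x := x) a
    obtain ⟨U', hU', t', rfl⟩ := M.presheaf.exists_germ_eq (x := x) a'
    have hxT : x ∈ U ⊓ U' ⊓ D := ⟨⟨hU, hU'⟩, hx⟩
    have h1 : U ⊓ U' ⊓ D ≤ U := inf_le_left.trans inf_le_left
    have h2 : U ⊓ U' ⊓ D ≤ U' := inf_le_left.trans inf_le_right
    rw [← AmpleLib.germ_res M h1 t hxT, ← AmpleLib.germ_res M h2 t' hxT] at haa ⊢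
    simp only [Function.comp_apply] at haa
    rw [key _ hxT inf_le_right, key _ hxT inf_le_right] at haa
    obtain ⟨W, hxW, i, i', hW⟩ := TopCat.Presheaf.germ_eq _ _ hxT hxT _ _ haa
    obtain rfl : i' = i := Subsingleton.elim _ _
    have hWD : W ≤ D := i'.le.trans inf_le_right
    have e1 : ∀ z : Γ(M, U ⊓ U' ⊓ D), P.presheaf.map i'.op (φ.app _ (shT z (res N inf_le_right e))) =
        φ.app W (shT (res M i'.le z) (res N hWD e)) := by
      intro z
      rw [← QCohLib.app_map φ]
      exact congrArg (φ.app W) ((AmpleLib.shT_res i'.le z _).trans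
        (congrArg (shT (res M i'.le z)) (AmpleLib.res_res N _ _ e)))
    rw [e1, e1] at hW
    have h3 := congrArg (M.presheaf.germ W x hxW) ((hb W hWD).1 hW)
    simpa only [AmpleLib.germ_res] using h3
  · obtain ⟨U, hU, t, rfl⟩ := P.presheaf.exists_germ_eq (x := x) p
    obtain ⟨a, ha⟩ := (hb (U ⊓ D) inf_le_right).2 (res P inf_le_left t)
    refine ⟨M.presheaf.germ (U ⊓ D) x ⟨hU, hx⟩ a, (key (U ⊓ D) ⟨hU, hx⟩ inf_le_right a).trans ?_⟩
    rw [show φ.app (U ⊓ D) (shT a (res N inf_le_right e)) = res P inf_le_left t from ha, AmpleLib.germ_res]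

theorem exists_tens_iso (b : ∀ V : X.Opens, Γ(M, V) → Γ(N, V) → Γ(P, V))
    (haddl : ∀ V m m' n, b V (m + m') n = b V m n + b V m' n)
    (haddr : ∀ V m n n', b V m (n + n') = b V m n + b V m n')
    (hsmull : ∀ (V : X.Opens) (r : Γ(X, V)) m n, b V (r • m) n = r • b V m n)
    (hsmulr : ∀ (V : X.Opens) (r : Γ(X, V)) m n, b V m (r • n) = r • b V m n)
    (hres : ∀ (V W : X.Opens) (h : V ≤ W) m n, res P h (b W m n) = b V (res M h m) (res N h n))
    (h : ∀ x : X, ∃ (D : X.Opens) (hx : x ∈ D) (e : Γ(N, D)), GenAt N e hx ∧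
      ∀ (V : X.Opens) (hV : V ≤ D), Function.Bijective fun a : Γ(M, V) => b V a (res N hV e)) :
    Nonempty (CohB1.tensorMod M N ≅ P) := by
  obtain ⟨φ, hφ⟩ := exists_tens_hom b haddl haddr hsmull hsmulr hres
  have : IsIso φ := isIso_of_bilin φ fun x => by
    obtain ⟨D, hx, e, he, hb⟩ := h x
    refine ⟨D, hx, e, he, fun V hV => ?_⟩
    simp only [hφ]
    exact hb V hV
  exact ⟨asIso φ⟩

end GrTildeLib

end
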