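import Groth.Agent.GrTildeLib.Twist
import Groth.Agent.GrTildeLib.TensLift
import Groth.Prelude.Def_PicGrp

/-!
# `M(p)~ ⊗ O(n) ≅ M(p + n)~`
-/

set_option autoImplicit false
universe u

open CategoryTheory CategoryTheory.Limits AlgebraicGeometry TopologicalSpace Opposite TopCat

noncomputable section

namespace GrTildeLib

variable {R A : Type u} [CommRing R] [CommRing A] [Algebra R A] {𝒜 : ℕ → Submodule R A} [GradedAlgebra 𝒜]
  {M : Type u} [AddCommGroup M] [Module R M] [Module A M] {ℳ : ℕ → Submodule R M} [SetLike.GradedSMul 𝒜 ℳ]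

/-- a section from a function which is locally one fraction -/
def secOf {q : ℤ} {V : (Proj 𝒜).Opens} (f : ∀ x : V, GrTilde.LocMod 𝒜 (M := M) x.1)
    (h : ∀ x : V, ∃ (W : (Proj 𝒜).Opens) (_ : x.1 ∈ W) (hW : W ≤ V) (i j : ℕ) (m : M) (s : A) (_ : m ∈ ℳ i)
      (_ : s ∈ 𝒜 j) (hnin : ∀ y : W, s ∉ y.1.asHomogeneousIdeal), ((i : ℤ) = j + q ∨ m = 0) ∧
        ∀ y : W, f ⟨y.1, hW y.2⟩ = LocalizedModule.mk m ⟨s, hnin y⟩) : Γ(GrTilde.tilde 𝒜 ℳ q, V) :=
  (⟨fun x => ⟨f x, by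
      obtain ⟨W, hxW, hW, i, j, m, s, hm, hs, hnin, hd, hv⟩ := h x
      refine (hv ⟨x.1, hxW⟩).symm ▸ ?_
      rcases hd with hd | hd
      · exact Submodule.subset_span ⟨i, j, ⟨m, hm⟩, ⟨s, hs⟩, hnin ⟨x.1, hxW⟩, hd, rfl⟩
      · rw [hd, LocalizedModule.zero_mk]; exact zero_mem _⟩,
    fun x => by
      obtain ⟨W, hxW, hW, i, j, m, s, hm, hs, hnin, hd, hv⟩ := h x
      exact ⟨W, hxW, homOfLE hW, i, j, ⟨m, hm⟩, ⟨s, hs⟩, hnin, hd, fun y => hv y⟩⟩ :
    GrTilde.sect 𝒜 ℳ q (op V))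

/-- multiplication by a section of a twisting sheaf -/
def mulSec {p n q : ℤ} (hq : p + n = q) {V : (Proj 𝒜).Opens} (t : Γ(GrTilde.tilde 𝒜 ℳ p, V))
    (w : Γ(Twist.twist 𝒜 n, V)) : Γ(GrTilde.tilde 𝒜 ℳ q, V) :=
  secOf (fun x => TwistLib.val w x • val t x) fun x => by
    obtain ⟨W, hxW, hW, i, j, m, s, hm, hs, hnin, hd, hv⟩ := val_exists t x
    obtain ⟨W', hxW', hW', i', j', a, b, ha, hb, hnin', hd', hv'⟩ := TwistLib.val_exists w x
    refine ⟨W ⊓ W', ⟨hxW, hxW'⟩, inf_le_left.trans hW, i' + i, j' + j, a • m, b * s,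
      SetLike.GradedSMul.smul_mem ha hm, SetLike.mul_mem_graded hb hs,
      fun y h => (y.1.isPrime.mem_or_mem h).elim (hnin' ⟨y.1, y.2.2⟩) (hnin ⟨y.1, y.2.1⟩), ?_, fun y => ?_⟩
    · rcases hd with hd | hd
      · rcases hd' with hd' | hd'
        · exact Or.inl (by push_cast; omega)
        · exact Or.inr (by rw [hd', zero_smul])
      · exact Or.inr (by rw [hd, smul_zero])
    · exact (congr_arg₂ (· • ·) (hv' ⟨y.1, y.2.2⟩) (hv ⟨y.1, y.2.1⟩)).trans (LocalizedModule.mk_smul_mk _ _ _ _)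

lemma val_mulSec {p n q : ℤ} (hq : p + n = q) {V : (Proj 𝒜).Opens} (t : Γ(GrTilde.tilde 𝒜 ℳ p, V))
    (w : Γ(Twist.twist 𝒜 n, V)) (x : V) : val (mulSec hq t w) x = TwistLib.val w x • val t x := rfl

lemma twistVal_add {n : ℤ} {V : (Proj 𝒜).Opens} (w w' : Γ(Twist.twist 𝒜 n, V)) (x : V) :
    TwistLib.val (w + w') x = TwistLib.val w x + TwistLib.val w' x := rfl

/-- powers of a degree one element generate the twisting sheaves -/
def unitPow {g : A} (hg : g ∈ 𝒜 1) : ∀ n : ℤ, TwistLib.Unit' 𝒜 n (Proj.basicOpen 𝒜 g)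
  | (k : ℕ) => ⟨k, 0, g ^ k, 1, by simpa using SetLike.pow_mem_graded k hg, SetLike.GradedOne.one_mem, by simp,
      fun x => pow_nin x k, fun x h => x.1.isPrime.ne_top ((Ideal.eq_top_iff_one _).mpr h)⟩
  | Int.negSucc k => ⟨0, k + 1, 1, g ^ (k + 1), SetLike.GradedOne.one_mem,
      by simpa using SetLike.pow_mem_graded (k + 1) hg, by rw [Int.negSucc_eq]; push_cast; ring,
      fun x h => x.1.isPrime.ne_top ((Ideal.eq_top_iff_one _).mpr h), fun x => pow_nin x _⟩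

/-- the inverse fraction -/
def unitInv {n : ℤ} {U : (Proj 𝒜).Opens} (u : TwistLib.Unit' 𝒜 n U) : TwistLib.Unit' 𝒜 (-n) U :=
  ⟨u.j, u.i, u.den, u.num, u.den_mem, u.num_mem, by have := u.deg; omega, u.den_nin, u.num_nin⟩

theorem mulSec_gen_bijective {p n q : ℤ} (hq : p + n = q) {U : (Proj 𝒜).Opens} (u : TwistLib.Unit' 𝒜 n U)
    (V : (Proj 𝒜).Opens) (hV : V ≤ U) :
    Function.Bijective fun a : Γ(GrTilde.tilde 𝒜 ℳ p, V) =>
      mulSec hq a (AmpleLib.res (Twist.twist 𝒜 n) hV u.sec) := by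
  have hinv : ∀ x : V, TwistLib.val (AmpleLib.res (Twist.twist 𝒜 (-n)) hV (unitInv u).sec) x *
      TwistLib.val (AmpleLib.res (Twist.twist 𝒜 n) hV u.sec) x = 1 := fun x => by
    rw [TwistLib.val_res, TwistLib.val_res, TwistLib.Unit'.sec, TwistLib.Unit'.sec, TwistLib.val_fracSec,
      TwistLib.val_fracSec, Localization.mk_mul, ← Localization.mk_one, Localization.mk_eq_mk_iff,
      Localization.r_iff_exists]
    exact ⟨1, by simp [unitInv, mul_comm]⟩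
  refine ⟨fun a a' h => sec_ext fun x => ?_, fun b =>
    ⟨mulSec (q := p) (by omega) b (AmpleLib.res (Twist.twist 𝒜 (-n)) hV (unitInv u).sec), sec_ext fun x => ?_⟩⟩
  · have e := congrArg (fun z => TwistLib.val (AmpleLib.res (Twist.twist 𝒜 (-n)) hV (unitInv u).sec) x • val z x) h
    simpa only [val_mulSec, ← mul_smul, hinv, one_smul] using e
  · simp only [val_mulSec, ← mul_smul]
    rw [mul_comm, hinv, one_smul]

theorem twistBy_iso {p n q : ℤ} (hq : p + n = q) (hcov : ∀ x : Proj 𝒜, ∃ g ∈ 𝒜 1, g ∉ x.asHomogeneousIdeal) :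
    Nonempty (CohB1.tensorMod (GrTilde.tilde 𝒜 ℳ p) (Twist.twist 𝒜 n) ≅ GrTilde.tilde 𝒜 ℳ q) := by
  refine exists_tens_iso (fun V => mulSec hq) (fun V m m' w => sec_ext fun x => ?_)
    (fun V m w w' => sec_ext fun x => ?_) (fun V r m w => sec_ext fun x => ?_)
    (fun V r m w => sec_ext fun x => ?_) (fun V W h m w => rfl) fun x => ?_
  · simp only [val_mulSec, val_add, smul_add]
  · simp only [val_mulSec, val_add, twistVal_add, add_smul]
  · simp only [val_mulSec, val_smul]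
    exact smul_comm _ _ _
  · simp only [val_mulSec, val_smul, TwistLib.val_smul, mul_smul]
  · obtain ⟨g, hg, hgx⟩ := hcov x
    exact ⟨Proj.basicOpen 𝒜 g, hgx, (unitPow hg n).sec, (unitPow hg n).genOn.genAt hgx,
      fun V hV => mulSec_gen_bijective hq _ V hV⟩

variable (𝒜) in
theorem cover_of_gen (hgen : (HomogeneousIdeal.irrelevant 𝒜).toIdeal ≤ Ideal.span (𝒜 1 : Set A))
    (x : Proj 𝒜) : ∃ g ∈ 𝒜 1, g ∉ x.asHomogeneousIdeal := by
  by_contra hne
  push Not at hne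
  exact x.not_irrelevant_le fun a ha => (Ideal.span_le.mpr hne) (hgen ha)

variable (𝒜) in
/-- `O(n)` is the sheaf of the shifted ring -/
def twistIsoTilde (n : ℤ) : Twist.twist 𝒜 n ≅ GrTilde.tilde 𝒜 𝒜 n := by
  let φ : Twist.twist 𝒜 n ⟶ GrTilde.tilde 𝒜 𝒜 n :=
    ⟨PresheafOfModules.homMk (M₁ := (Twist.twist 𝒜 n).val) (M₂ := (GrTilde.tilde 𝒜 𝒜 n).val)
      { app := fun W => AddCommGrpCat.ofHom
          (AddMonoidHom.mk' (fun t : Γ(Twist.twist 𝒜 n, W.unop) => toTilde t) (fun t t' => rfl))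
        naturality := fun W W' j => by ext t; rfl }
      (fun W r t => sec_ext (V := W.unop) fun x => (TwistLib.val_smul r t x).trans (val_smul r (toTilde t) x).symm)⟩
  have : IsIso φ := by
    rw [Scheme.Modules.Hom.isIso_iff_isIso_app]
    intro V
    refine (ConcreteCategory.isIso_iff_bijective _).mpr ⟨fun t t' h => ?_, fun t => ⟨ofTilde t, rfl⟩⟩
    exact TwistLib.sec_ext fun x => congrArg (fun z => val z x) h
  exact asIso φ

theorem twist_tensor_twist (hcov : ∀ x : Proj 𝒜, ∃ g ∈ 𝒜 1, g ∉ x.asHomogeneousIdeal) (m n : ℤ) :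
    Nonempty (CohB1.tensorMod (Twist.twist 𝒜 m) (Twist.twist 𝒜 n) ≅ Twist.twist 𝒜 (m + n)) := by
  obtain ⟨e⟩ := twistBy_iso (ℳ := 𝒜) (p := m) (n := n) rfl hcov
  exact ⟨PicGrp.tensorModIso (twistIsoTilde 𝒜 m) (Iso.refl _) ≪≫ e ≪≫ (twistIsoTilde 𝒜 (m + n)).symm⟩

end GrTildeLib

end
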