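import Groth.Agent.GrTildeLib.Basic
import Groth.Agent.QCohLib.Affine

/-!
# Sections on a standard chart; quasi-coherence
-/

set_option autoImplicit false
universe u

open CategoryTheory CategoryTheory.Limits AlgebraicGeometry TopologicalSpace Opposite TopCat HomogeneousLocalization

noncomputable section

namespace GrTildeLib

variable {R A : Type u} [CommRing R] [CommRing A] [Algebra R A] {𝒜 : ℕ → Submodule R A} [GradedAlgebra 𝒜]
  {M : Type u} [AddCommGroup M] [Module R M] [Module A M] {ℳ : ℕ → Submodule R M} [SetLike.GradedSMul 𝒜 ℳ]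
  {n : ℤ}

lemma pow_nin {f : A} (x : Proj.basicOpen 𝒜 f) (k : ℕ) : f ^ k ∉ x.1.asHomogeneousIdeal :=
  fun h => x.2 (x.1.isPrime.mem_of_pow_mem k h)

/-- One fraction on a homogeneous basic open around each point. -/
theorem exists_chart {d : ℕ} {f : A} (hf : f ∈ 𝒜 d) (hd : 0 < d) (t : Γ(GrTilde.tilde 𝒜 ℳ n, Proj.basicOpen 𝒜 f))
    (x : Proj.basicOpen 𝒜 f) :
    ∃ (e : ℕ) (g : A) (i : ℕ) (m : M), 0 < e ∧ g ∈ 𝒜 e ∧ x.1 ∈ Proj.basicOpen 𝒜 g ∧ m ∈ ℳ i ∧
      ((i : ℤ) = e + n ∨ m = 0) ∧ ∃ hle : Proj.basicOpen 𝒜 g ≤ Proj.basicOpen 𝒜 f,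
        ∀ y : Proj.basicOpen 𝒜 g, val t ⟨y.1, hle y.2⟩ = LocalizedModule.mk m ⟨g, y.2⟩ := by
  obtain ⟨W, hxW, hW, i, j, m, s, hm, hs, hnin, hdeg, hval⟩ := val_exists t x
  obtain ⟨e', g', he', hg', hxg', hgW⟩ := exists_homogeneous_basicOpen 𝒜 hxW
  have hle : Proj.basicOpen 𝒜 (g' * f * s) ≤ Proj.basicOpen 𝒜 g' := fun y hy h =>
    hy (Ideal.mul_mem_right _ _ (Ideal.mul_mem_right _ _ h))
  refine ⟨e' + d + j, g' * f * s, e' + d + i, (g' * f) • m, by omega,
    SetLike.mul_mem_graded (SetLike.mul_mem_graded hg' hf) hs, ?_,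
    SetLike.GradedSMul.smul_mem (SetLike.mul_mem_graded hg' hf) hm, ?_, (hle.trans hgW).trans hW, fun y => ?_⟩
  · exact fun h => ((x.1.isPrime.mem_or_mem h).elim (fun h' => (x.1.isPrime.mem_or_mem h').elim hxg' x.2)
      (hnin ⟨x.1, hxW⟩))
  · rcases hdeg with h | h
    · exact Or.inl (by push_cast; omega)
    · exact Or.inr (by rw [h, smul_zero])
  · refine (hval ⟨y.1, hgW (hle y.2)⟩).trans (mk_congr ?_)
    change (g' * f * s) • m = s • (g' * f) • m
    rw [smul_smul, mul_comm s]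

open scoped Classical in
/-- every section over `D₊(f)` is one fraction -/
theorem exists_eq_frac [DirectSum.Decomposition ℳ] {d : ℕ} (hd : 0 < d) {f : A} (hf : f ∈ 𝒜 d)
    (t : Γ(GrTilde.tilde 𝒜 ℳ n, Proj.basicOpen 𝒜 f)) :
    ∃ (k i : ℕ) (m : M), m ∈ ℳ i ∧ (i : ℤ) = k * d + n ∧
      ∀ x : Proj.basicOpen 𝒜 f, val t x = LocalizedModule.mk m ⟨f ^ k, pow_nin x k⟩ := by
  choose e g i m he hg hxg hm hdeg hle hval using exists_chart hf hd t
  -- finitely many charts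
  have hrad : f ∈ (Ideal.span (Set.range g)).radical := by
    refine (ProjTopLib.mem_radical_iff 𝒜 (Ideal.homogeneous_span 𝒜 _ ?_)
      (ProjTopLib.mem_irrelevant_of_mem 𝒜 hd hf)).mpr fun x hx => ?_
    · rintro _ ⟨a, rfl⟩
      exact ⟨_, hg a⟩
    · by_contra hfx
      exact hxg ⟨x, hfx⟩ (hx (Ideal.subset_span ⟨⟨x, hfx⟩, rfl⟩))
  obtain ⟨K₀, hK₀⟩ := hrad
  obtain ⟨c₀, hc₀⟩ := Finsupp.mem_span_range_iff_exists_finsupp.mp hK₀
  let F := c₀.support
  -- agreement on overlaps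
  have hN : ∀ a b, ∃ N : ℕ, (g a * g b) ^ N • (g b • m a) = (g a * g b) ^ N • (g a • m b) := by
    intro a b
    have hval' : ∀ (x : ProjectiveSpectrum 𝒜) (hx : g a * g b ∉ x.asHomogeneousIdeal),
        (LocalizedModule.mk (m a) ⟨g a, fun h => hx (Ideal.mul_mem_right _ _ h)⟩ : GrTilde.LocMod 𝒜 x) =
          (LocalizedModule.mk (m b) ⟨g b, fun h => hx (Ideal.mul_mem_left _ _ h)⟩ : GrTilde.LocMod 𝒜 x) := fun x hx =>
      (hval a ⟨x, fun h => hx (Ideal.mul_mem_right _ _ h)⟩).symm.trans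
        (hval b ⟨x, fun h => hx (Ideal.mul_mem_left _ _ h)⟩)
    have h1 : g b • m a ∈ ℳ (e b + i a) := SetLike.GradedSMul.smul_mem (hg b) (hm a)
    have h2 : g a • m b ∈ ℳ (e a + i b) := SetLike.GradedSMul.smul_mem (hg a) (hm b)
    obtain ⟨p, h1', h2'⟩ : ∃ p, g b • m a ∈ ℳ p ∧ g a • m b ∈ ℳ p := by
      rcases hdeg a with ha | ha
      · rcases hdeg b with hb | hb
        · exact ⟨_, h1, (show e a + i b = e b + i a by omega) ▸ h2⟩
        · exact ⟨_, h1, by rw [hb, smul_zero]; exact zero_mem _⟩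
      · exact ⟨_, by rw [ha, smul_zero]; exact zero_mem _, h2⟩
    exact exists_pow_smul_eq (Nat.add_pos_left (he a) (e b)) (SetLike.mul_mem_graded (hg a) (hg b)) h1' h2' _ _
      hval'
  choose Nf hNf using hN
  let N := (F ×ˢ F).sup fun q => Nf q.1 q.2
  let G := fun a => g a ^ (N + 1)
  let M' := fun a => g a ^ N • m a
  have hag : ∀ a ∈ F, ∀ b ∈ F, G b • M' a = G a • M' b := by
    intro a ha b hb
    have hle' : Nf a b ≤ N := Finset.le_sup (f := fun q => Nf q.1 q.2) (Finset.mem_product.mpr ⟨ha, hb⟩ :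
      (a, b) ∈ F ×ˢ F)
    have h := congrArg (fun z => (g a * g b) ^ (N - Nf a b) • z) (hNf a b)
    simp only [← mul_smul, ← mul_assoc, ← pow_add, Nat.sub_add_cancel hle'] at h
    simp only [G, M', ← mul_smul]
    refine Eq.trans (congrArg (· • m a) ?_) (h.trans (congrArg (· • m b) ?_)) <;>
      simp only [mul_pow, pow_succ] <;> ring
  -- the radical again
  have hrad' : f ∈ (Ideal.span (G '' (F : Set _))).radical := by
    have h1 : f ^ K₀ ∈ Ideal.span (g '' (F : Set _)) := by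
      rw [← hc₀, Finsupp.sum]
      exact Ideal.sum_mem _ fun a ha => Ideal.mul_mem_left _ _ (Ideal.subset_span ⟨a, ha, rfl⟩)
    have h2 : Ideal.span (g '' (F : Set _)) ≤ (Ideal.span (G '' (F : Set _))).radical := by
      rw [Ideal.span_le]
      rintro _ ⟨a, ha, rfl⟩
      exact ⟨N + 1, Ideal.subset_span ⟨a, ha, rfl⟩⟩
    exact Ideal.radical_le_radical_iff.mpr h2 (⟨K₀, h1⟩ : f ∈ (Ideal.span (g '' (F : Set _))).radical)
  obtain ⟨K₁, hK₁⟩ := hrad'
  let K := K₁ + n.natAbs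
  have hK : f ^ K ∈ Ideal.span (G '' (F : Set _)) := by
    rw [pow_add]; exact Ideal.mul_mem_right _ _ hK₁
  obtain ⟨c, hcF, hc⟩ := (Finsupp.mem_span_image_iff_linearCombination A).mp hK
  have hKn : 0 ≤ (K : ℤ) * d + n := by
    have h1 : (K : ℤ) ≤ K * d := le_mul_of_one_le_right (by positivity) (by exact_mod_cast hd)
    omega
  have hG : ∀ a, G a ∈ 𝒜 ((N + 1) * e a) := fun a => SetLike.pow_mem_graded _ (hg a)
  let c' := fun a => if (N + 1) * e a ≤ K * d then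
    (DirectSum.decompose 𝒜 (c a) (K * d - (N + 1) * e a) : A) else 0
  have hsum : f ^ K = ∑ a ∈ c.support, c' a * G a := by
    have h1 : (DirectSum.decompose 𝒜 (f ^ K) (K * d) : A) = f ^ K :=
      DirectSum.decompose_of_mem_same 𝒜 (SetLike.pow_mem_graded K hf)
    rw [← h1]
    conv_lhs => rw [← hc, Finsupp.linearCombination_apply, Finsupp.sum]
    rw [DirectSum.decompose_sum, DFinsupp.finsetSum_apply, Submodule.coe_sum]
    refine Finset.sum_congr rfl fun a _ => ?_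
    rw [smul_eq_mul]
    simp only [c']
    split_ifs with h
    · exact DirectSum.coe_decompose_mul_of_right_mem_of_le 𝒜 (hG a) h
    · rw [zero_mul]; exact DirectSum.coe_decompose_mul_of_right_mem_of_not_le 𝒜 (hG a) h
  refine ⟨K, ((K : ℤ) * d + n).toNat, ∑ a ∈ c.support, c' a • M' a, Submodule.sum_mem _ fun a _ => ?_,
    Int.toNat_of_nonneg hKn, fun x => ?_⟩
  · simp only [c']
    split_ifs with h
    · rcases hdeg a with h' | h'
      · have h3 : (g a ^ N) • m a ∈ ℳ (N * e a + i a) :=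
          SetLike.GradedSMul.smul_mem (SetLike.pow_mem_graded N (hg a)) (hm a)
        have h4 : ((K : ℤ) * d + n).toNat = (K * d - (N + 1) * e a) + (N * e a + i a) := by
          have e1 : (((K * d - (N + 1) * e a) + (N * e a + i a) : ℕ) : ℤ) = (K : ℤ) * d + n := by
            push_cast [Nat.cast_sub h]; rw [h']; ring
          rw [← e1, Int.toNat_natCast]
        rw [h4]
        have h5 : (DirectSum.decompose 𝒜 (c a) (K * d - (N + 1) * e a) : A) • M' a ∈
            ℳ ((K * d - (N + 1) * e a) + (N * e a + i a)) :=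
          SetLike.GradedSMul.smul_mem (DirectSum.decompose 𝒜 (c a) (K * d - (N + 1) * e a)).2 h3
        exact h5
      · simp only [M', h', smul_zero, zero_mem]
    · rw [zero_smul]; exact zero_mem _
  · obtain ⟨b, hbF, hbx⟩ : ∃ b ∈ c.support, G b ∉ x.1.asHomogeneousIdeal := by
      by_contra hne
      push Not at hne
      refine pow_nin x K ?_
      rw [hsum]
      exact Ideal.sum_mem _ fun a ha => Ideal.mul_mem_left _ _ (hne a ha)
    have hgb : g b ∉ x.1.asHomogeneousIdeal := fun h => hbx (Ideal.pow_mem_of_mem _ h _ (Nat.succ_pos N))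
    have hb' : b ∈ F := hcF hbF
    refine (hval b ⟨x.1, hgb⟩).trans ((mk_congr (s' := ⟨G b, hbx⟩) (m' := M' b) ?_).trans (mk_congr ?_))
    · change G b • m b = g b • M' b
      simp only [G, M', ← mul_smul, pow_succ']
    · change f ^ K • M' b = G b • ∑ a ∈ c.support, c' a • M' a
      rw [hsum, Finset.sum_smul, Finset.smul_sum]
      refine Finset.sum_congr rfl fun a ha => ?_
      rw [mul_smul, ← hag a (hcF ha) b hb', smul_comm]

/-- the value of a function on a chart -/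
theorem val_awayToSection {d : ℕ} {f : A} (hf : f ∈ 𝒜 d) {k : ℕ} {a : A} (ha : a ∈ 𝒜 (k • d))
    (x : Proj.basicOpen 𝒜 f) :
    ((show Twist.O (op (Proj.basicOpen 𝒜 f)) from Proj.awayToSection 𝒜 f (Away.mk 𝒜 hf k a ha)).1 x).val =
      Localization.mk a ⟨f ^ k, pow_nin x k⟩ := by
  erw [ProjectiveSpectrum.Proj.awayToSection_apply]
  simp only [Away.val_mk, Localization.mk_eq_mk', IsLocalization.map_mk', RingHom.id_apply]

/-- where a function on a chart is invertible -/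
theorem basicOpen_awayToSection {d : ℕ} {f : A} (hf : f ∈ 𝒜 d) (hd : 0 < d) {k : ℕ} {a : A} (ha : a ∈ 𝒜 (k • d)) :
    (Proj 𝒜).basicOpen (Proj.awayToSection 𝒜 f (Away.mk 𝒜 hf k a ha)) = Proj.basicOpen 𝒜 (f * a) := by
  rw [Proj.basicOpen_mul]
  ext x
  by_cases hx : x ∈ Proj.basicOpen 𝒜 f
  · have hv := val_awayToSection hf ha ⟨x, hx⟩
    refine Iff.trans ?_ (and_iff_right hx).symm
    refine (Scheme.mem_basicOpen (Proj 𝒜) _ x hx).trans ?_
    refine ((MulEquiv.isUnit_map (Proj.stalkIso' 𝒜 x)).symm.trans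
      (Iff.of_eq (congrArg IsUnit (Proj.stalkIso'_germ 𝒜 _ x hx _)))).trans ?_
    refine (HomogeneousLocalization.isUnit_iff_isUnit_val 𝒜 x.asHomogeneousIdeal.toIdeal _).symm.trans ?_
    erw [hv, Localization.mk_eq_mk', IsLocalization.AtPrime.isUnit_mk'_iff (Twist.Loc 𝒜 x)]
    rfl
  · exact ⟨fun h => absurd (Scheme.basicOpen_le _ _ h) hx, fun h => absurd h.1 hx⟩

theorem localizingAt [DirectSum.Decomposition ℳ] {d : ℕ} (hd : 0 < d) {f : A} (hf : f ∈ 𝒜 d)
    (c : Γ(Proj 𝒜, Proj.basicOpen 𝒜 f)) : QCohLib.LocalizingAt (GrTilde.tilde 𝒜 ℳ n) c := by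
  have : IsIso (Proj.awayToSection 𝒜 f) := by
    rw [← Proj.basicOpenIsoAway_hom 𝒜 f hf hd]
    infer_instance
  obtain ⟨z, rfl⟩ := (ConcreteCategory.bijective_of_isIso (Proj.awayToSection 𝒜 f)).2 c
  obtain ⟨k, a, ha, rfl⟩ := Away.mk_surjective 𝒜 hf z
  have hbo := basicOpen_awayToSection hf hd ha
  have hfa : f * a ∈ 𝒜 (d + k • d) := SetLike.mul_mem_graded hf ha
  have hfa0 : 0 < d + k • d := Nat.add_pos_left hd _
  constructor
  · intro s
    obtain ⟨l, i, m, hm, hi, hs⟩ := exists_eq_frac hfa0 hfa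
      ((GrTilde.tilde 𝒜 ℳ n).presheaf.map (homOfLE hbo.ge).op s)
    have hpow : f ^ ((k + 1) * l) ∈ 𝒜 (((k + 1) * l) • d) := SetLike.pow_mem_graded _ hf
    refine ⟨l, fracSec hm hpow ?_ (fun y => pow_nin y _), sec_ext fun y => ?_⟩
    · rw [hi, smul_eq_mul, smul_eq_mul]; push_cast; ring
    · have hy' : y.1 ∈ Proj.basicOpen 𝒜 (f * a) := hbo.le y.2
      have hs' : val s y = LocalizedModule.mk m ⟨(f * a) ^ l, pow_nin ⟨y.1, hy'⟩ l⟩ := hs ⟨y.1, hy'⟩
      rw [← map_pow, ← map_pow, val_smul, val_res, val_fracSec, hs']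
      have hcv : ((show Twist.O (op ((Proj 𝒜).basicOpen (Proj.awayToSection 𝒜 f (Away.mk 𝒜 hf k a ha)))) from
          (Proj 𝒜).presheaf.map (homOfLE ((Proj 𝒜).basicOpen_le _)).op
            ((Proj.awayToSection 𝒜 f) (Away.mk 𝒜 hf k a ha) ^ l)).1 y).val =
          Localization.mk (a ^ l) (⟨f ^ k, pow_nin ⟨y.1, (Proj 𝒜).basicOpen_le _ y.2⟩ k⟩ ^ l) := by
        rw [← Localization.mk_pow, ← val_awayToSection hf ha ⟨y.1, (Proj 𝒜).basicOpen_le _ y.2⟩,
          ← HomogeneousLocalization.val_pow]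
        rfl
      erw [hcv, LocalizedModule.mk_smul_mk]
      refine mk_congr ?_
      change ((f ^ k) ^ l * (f * a) ^ l) • m = f ^ ((k + 1) * l) • a ^ l • m
      rw [smul_smul, mul_pow, add_mul, one_mul, pow_add, ← pow_mul, mul_assoc]
  · intro t ht
    obtain ⟨l, i, m, hm, hi, hs⟩ := exists_eq_frac hd hf t
    obtain ⟨N, hN⟩ := exists_pow_smul_eq_zero 𝒜 ℳ hfa0 hfa hm fun x hx => by
      have hx' : x ∈ (Proj 𝒜).basicOpen (Proj.awayToSection 𝒜 f (Away.mk 𝒜 hf k a ha)) := hbo.ge hx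
      have h1 := congrArg (fun z => val z ⟨x, hx'⟩) ht
      exact ⟨_, (hs ⟨x, (Proj 𝒜).basicOpen_le _ hx'⟩).symm.trans h1⟩
    refine ⟨N, sec_ext fun y => ?_⟩
    rw [← map_pow, val_smul]
    have hcv : ((show Twist.O (op (Proj.basicOpen 𝒜 f)) from
        (Proj 𝒜).presheaf.map (homOfLE (le_refl (Proj.basicOpen 𝒜 f))).op
          ((Proj.awayToSection 𝒜 f) (Away.mk 𝒜 hf k a ha) ^ N)).1 y).val =
        Localization.mk (a ^ N) (⟨f ^ k, pow_nin y k⟩ ^ N) := by
      rw [← Localization.mk_pow, ← val_awayToSection hf ha y, ← HomogeneousLocalization.val_pow]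
      rfl
    erw [hcv, hs, LocalizedModule.mk_smul_mk]
    rw [val_zero, ← LocalizedModule.zero_mk 1, LocalizedModule.mk_eq]
    refine ⟨⟨f ^ N, pow_nin y N⟩, ?_⟩
    simp only [Submonoid.smul_def, OneMemClass.coe_one, one_smul, smul_zero, smul_smul, ← mul_pow, hN]

theorem isQCoh_tilde [DirectSum.Decomposition ℳ] (n : ℤ) : Coh.IsQCoh (GrTilde.tilde 𝒜 ℳ n) :=
  QCohLib.isQCoh_of_localizingAt _ (fun t : Σ d : {d : ℕ // 0 < d}, 𝒜 d.1 => Proj.basicOpen 𝒜 (t.2 : A))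
    (fun t => Proj.isAffineOpen_basicOpen 𝒜 _ t.2.2 t.1.2) (ProjTopLib.iSup_pos_basicOpen 𝒜)
    fun t => localizingAt t.1.2 t.2.2

end GrTildeLib

end
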