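import Groth.Agent.GrTildeLib.Gamma

/-!
# Graded submodules spanned by homogeneous elements
-/

set_option autoImplicit false
universe u

open CategoryTheory AlgebraicGeometry

noncomputable section

namespace GrTildeLib

variable {R A : Type u} [CommRing R] [CommRing A] [Algebra R A] {𝒜 : ℕ → Submodule R A} [GradedAlgebra 𝒜]
  {M : Type u} [AddCommGroup M] [Module R M] [Module A M] [IsScalarTower R A M]
  (ℳ : ℕ → Submodule R M) [SetLike.GradedSMul 𝒜 ℳ] (S : Submodule A M)

/-- the induced pieces -/
def subGr (k : ℕ) : Submodule R S := (ℳ k).comap (S.subtype.restrictScalars R)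

instance subGrSMul : SetLike.GradedSMul 𝒜 (subGr ℳ S) :=
  ⟨fun _ _ a z ha hz => SetLike.GradedSMul.smul_mem (A := 𝒜) (B := ℳ) (ai := a) (bj := (z : M)) ha hz⟩

variable [DirectSum.Decomposition ℳ]

open scoped Classical in
include 𝒜 in
omit [IsScalarTower R A M] in
theorem decompose_mem_span {T : Set M} (hT : ∀ z ∈ T, ∃ k, z ∈ ℳ k) {m : M} (hm : m ∈ Submodule.span A T)
    (k : ℕ) : (DirectSum.decompose ℳ m k : M) ∈ Submodule.span A T := by
  induction hm using Submodule.span_induction generalizing k with
  | mem z hz =>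
    obtain ⟨j, hj⟩ := hT z hz
    by_cases h : j = k
    · subst h; rw [DirectSum.decompose_of_mem_same ℳ hj]; exact Submodule.subset_span hz
    · rw [DirectSum.decompose_of_mem_ne ℳ hj h]; exact zero_mem _
  | zero => simp
  | add a b _ _ ha hb => rw [DirectSum.decompose_add, DirectSum.add_apply, Submodule.coe_add]; exact add_mem (ha k) (hb k)
  | smul a x _ hx =>
    induction a using DirectSum.Decomposition.inductionOn (ℳ := 𝒜) with
    | zero => simp
    | @homogeneous l b =>
      rw [← DirectSum.sum_support_decompose ℳ x, Finset.smul_sum, DirectSum.decompose_sum,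
        DFinsupp.finsetSum_apply, Submodule.coe_sum]
      refine Submodule.sum_mem _ fun i _ => ?_
      have h1 : (b : A) • (DirectSum.decompose ℳ x i : M) ∈ ℳ (l + i) :=
        SetLike.GradedSMul.smul_mem b.2 (DirectSum.decompose ℳ x i).2
      by_cases h : l + i = k
      · subst h; rw [DirectSum.decompose_of_mem_same ℳ h1]; exact Submodule.smul_mem _ _ (hx i)
      · rw [DirectSum.decompose_of_mem_ne ℳ h1 h]; exact zero_mem _
    | add b c hb hc => rw [add_smul, DirectSum.decompose_add, DirectSum.add_apply, Submodule.coe_add]; exact add_mem hb hc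

open scoped Classical in
/-- the induced decomposition -/
def subDecomposition (hS : ∀ m ∈ S, ∀ k, (DirectSum.decompose ℳ m k : M) ∈ S) :
    DirectSum.Decomposition (subGr ℳ S) where
  decompose' n := ∑ k ∈ (DirectSum.decompose ℳ (n : M)).support,
    DirectSum.of (fun k => subGr ℳ S k) k ⟨⟨DirectSum.decompose ℳ (n : M) k, hS n n.2 k⟩,
      SetLike.coe_mem (DirectSum.decompose ℳ (n : M) k)⟩
  left_inv n := by
    rw [map_sum]
    simp only [DirectSum.coeAddMonoidHom_of]
    refine Subtype.ext ?_
    rw [Submodule.coe_sum]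
    exact DirectSum.sum_support_decompose ℳ (n : M)
  right_inv x := by
    have hval : ∀ (x : DirectSum ℕ fun k => subGr ℳ S k) (k : ℕ),
        (DirectSum.decompose ℳ ((DirectSum.coeAddMonoidHom (subGr ℳ S) x : S) : M) k : M) =
          (((x k : subGr ℳ S k) : S) : M) := by
      intro x k
      induction x using DirectSum.induction_on with
      | zero => simp
      | of j z =>
        rw [DirectSum.coeAddMonoidHom_of]
        have hzj : (((z : subGr ℳ S j) : S) : M) ∈ ℳ j := z.2
        by_cases h : j = k
        · subst h; rw [DirectSum.of_eq_same, DirectSum.decompose_of_mem_same ℳ hzj]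
        · rw [DirectSum.of_eq_of_ne _ _ _ (Ne.symm h), DirectSum.decompose_of_mem_ne ℳ hzj h]; rfl
      | add a b ha hb =>
        rw [map_add, Submodule.coe_add, DirectSum.decompose_add, DirectSum.add_apply, Submodule.coe_add, ha, hb]
        rfl
    refine DFinsupp.ext fun k => Subtype.ext (Subtype.ext ?_)
    rw [DFinsupp.finsetSum_apply, Submodule.coe_sum, Submodule.coe_sum, ← hval x k]
    rw [Finset.sum_eq_single k]
    · rw [DirectSum.of_eq_same]
    · intro j _ hj
      rw [DirectSum.of_eq_of_ne _ _ _ hj.symm]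
      rfl
    · intro hk
      rw [DirectSum.of_eq_same]
      have h0 : DirectSum.decompose ℳ ((DirectSum.coeAddMonoidHom (subGr ℳ S) x : S) : M) k = 0 :=
        DFinsupp.notMem_support_iff.mp hk
      exact congrArg Subtype.val h0

omit [DirectSum.Decomposition ℳ] [SetLike.GradedSMul 𝒜 ℳ] in
/-- restricting the data -/
def GrData.sub {ι : Type*} {g : ι → A} {hg : ∀ i, g i ∈ 𝒜 1} {F : (Proj 𝒜).Modules} (D : GrData hg F ℳ) :
    GrData hg F (subGr ℳ S) where
  ν k := AddMonoidHom.mk' (fun z => D.ν k ⟨((z : S) : M), z.2⟩) (fun z w => map_add (D.ν k) ⟨_, z.2⟩ ⟨_, w.2⟩)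
  compat k z := D.compat k ⟨((z : S) : M), z.2⟩
  smul l k a ha z h i := D.smul l k a ha ⟨((z : S) : M), z.2⟩ h i

end GrTildeLib

end
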