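import Groth.Agent.QCohLib.AffineFinite

/-!
# Isomorphisms of quasi-coherent modules are detected on an affine cover
-/

set_option autoImplicit false
universe u

open CategoryTheory CategoryTheory.Limits TopologicalSpace Opposite AlgebraicGeometry

noncomputable section

namespace GrTildeLib

open QCohLib

variable {X : Scheme.{u}} {M N : X.Modules} (φ : M ⟶ N)

theorem isIso_of_bijective_basis {ι : Type*} (B : ι → X.Opens)
    (hB : ∀ (V : X.Opens) (x : X), x ∈ V → ∃ i, x ∈ B i ∧ B i ≤ V)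
    (h : ∀ i, Function.Bijective (φ.app (B i))) : IsIso φ := by
  have hbij : ∀ V : X.Opens, Function.Bijective (φ.app V) := by
    intro V
    choose b hb hbV using fun p : V => hB V p.1 p.2
    have hcov : V ≤ iSup fun p => B (b p) := fun p hp => Opens.mem_iSup.mpr ⟨⟨p, hp⟩, hb ⟨p, hp⟩⟩
    have inj : Function.Injective (φ.app V) := fun a a' hab => by
      refine TopCat.Sheaf.eq_of_locally_eq' ((toAbF X).obj M : TopCat.Sheaf AddCommGrpCat _)
        (fun p => B (b p)) V (fun p => homOfLE (hbV p)) hcov a a' fun p => (h _).1 ?_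
      exact (app_map φ _ a).trans ((congr_arg _ hab).trans (app_map φ _ a').symm)
    refine ⟨inj, fun s => ?_⟩
    choose t ht using fun p : V => (h (b p)).2 (N.presheaf.map (homOfLE (hbV p)).op s)
    obtain ⟨g, hg, -⟩ := TopCat.Sheaf.existsUnique_gluing'
      ((toAbF X).obj M : TopCat.Sheaf AddCommGrpCat _) (fun p => B (b p)) V (fun p => homOfLE (hbV p)) hcov t
      (fun p q => by
        choose b' hb' hb'le using fun r : ↥(B (b p) ⊓ B (b q)) => hB (B (b p) ⊓ B (b q)) r.1 r.2
        refine TopCat.Sheaf.eq_of_locally_eq' ((toAbF X).obj M : TopCat.Sheaf AddCommGrpCat _)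
          (fun r => B (b' r)) (B (b p) ⊓ B (b q)) (fun r => homOfLE (hb'le r))
          (fun r hr' => Opens.mem_iSup.mpr ⟨⟨r, hr'⟩, hb' ⟨r, hr'⟩⟩) _ _ fun r => (h _).1 ?_
        change φ.app (B (b' r)) (M.presheaf.map _ (M.presheaf.map _ (t p))) =
          φ.app (B (b' r)) (M.presheaf.map _ (M.presheaf.map _ (t q)))
        rw [app_map, app_map, app_map, app_map, ht, ht, map_map', map_map', map_map', map_map']
        rfl)
    refine ⟨g, TopCat.Sheaf.eq_of_locally_eq' ((toAbF X).obj N : TopCat.Sheaf AddCommGrpCat _)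
      (fun p => B (b p)) V (fun p => homOfLE (hbV p)) hcov _ _ fun p => ?_⟩
    exact (app_map φ _ g).symm.trans ((congr_arg _ (hg p)).trans (ht p))
  have : ∀ V, IsIso (((Scheme.Modules.toPresheaf X).map φ).app V) := fun V =>
    (ConcreteCategory.isIso_iff_bijective _).mpr (hbij V.unop)
  have : IsIso ((Scheme.Modules.toPresheaf X).map φ) := NatIso.isIso_of_isIso_app _
  exact isIso_of_reflects_iso φ (Scheme.Modules.toPresheaf X)

theorem bijective_basicOpen [Coh.IsQCoh M] [Coh.IsQCoh N] {U : X.Opens} (hU : IsAffineOpen U)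
    (h : Function.Bijective (φ.app U)) (c : Γ(X, U)) : Function.Bijective (φ.app (X.basicOpen c)) := by
  have hM := localizingAt_of_isQCoh hU M c
  have hN := localizingAt_of_isQCoh hU N c
  refine ⟨(injective_iff_map_eq_zero (φ.app (X.basicOpen c)).hom).mpr fun w hw => ?_, fun v => ?_⟩
  · obtain ⟨n, t, ht⟩ := hM.exists_extend w
    have h1 := congr_arg (φ.app (X.basicOpen c)) ht
    rw [app_map, app_smul, show φ.app (X.basicOpen c) w = 0 from hw, smul_zero] at h1
    obtain ⟨k, hk⟩ := hN.eq_zero (φ.app U t) h1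
    simp only [homOfLE_refl, op_id, CategoryTheory.Functor.map_id] at hk
    change c ^ k • φ.app U t = 0 at hk
    rw [← app_smul] at hk
    have h2 := congr_arg (M.presheaf.map (homOfLE (X.basicOpen_le c)).op)
      (h.1 (hk.trans (map_zero (φ.app U).hom).symm))
    rw [map_smul', ht, ← mul_smul, map_pow, ← pow_add, map_zero] at h2
    exact ((isUnit_res c (le_refl (X.basicOpen c))).pow (k + n)).smul_eq_zero.mp h2
  · obtain ⟨n, t, ht⟩ := hN.exists_extend v
    obtain ⟨t', rfl⟩ := h.2 t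
    obtain ⟨u, hu⟩ := (isUnit_res c (le_refl (X.basicOpen c))).pow n
    refine ⟨(↑u⁻¹ : Γ(X, X.basicOpen c)) • M.presheaf.map (homOfLE (X.basicOpen_le c)).op t', ?_⟩
    rw [app_smul, app_map, ht, ← mul_smul, ← hu, Units.inv_mul, one_smul]

theorem isIso_of_bijective_cover [Coh.IsQCoh M] [Coh.IsQCoh N] {ι : Type*} (U : ι → X.Opens)
    (hU : ∀ i, IsAffineOpen (U i)) (hcov : ⨆ i, U i = ⊤) (h : ∀ i, Function.Bijective (φ.app (U i))) :
    IsIso φ := by
  refine isIso_of_bijective_basis φ (fun p : Σ i, Γ(X, U i) => X.basicOpen p.2) (fun V x hx => ?_)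
    fun p => bijective_basicOpen φ (hU p.1) (h p.1) p.2
  obtain ⟨i, hi⟩ := Opens.mem_iSup.mp (hcov.ge (show x ∈ (⊤ : X.Opens) from trivial))
  obtain ⟨c, hcV, hxc⟩ := exists_basicOpen_nhd (hU i) hx hi
  exact ⟨⟨i, c⟩, hxc, hcV⟩

end GrTildeLib

end
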