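import Groth.Agent.GrTildeLib.Phi
import Groth.Agent.QCohLib.AffineFinite
import Mathlib.Algebra.Module.GradedModule

/-!
# The graded module of twisted sections
-/

set_option autoImplicit false
universe u

open CategoryTheory CategoryTheory.Limits AlgebraicGeometry TopologicalSpace Opposite TopCat HomogeneousLocalization
open AmpleLib (res res_res res_smul res_refl)
open scoped DirectSum

noncomputable section

namespace GrTildeLib

variable {R A : Type u} [CommRing R] [CommRing A] [Algebra R A] {𝒜 : ℕ → Submodule R A} [GradedAlgebra 𝒜]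
  {ι : Type u} {g : ι → A} (hg : ∀ i, g i ∈ 𝒜 1) (F : (Proj 𝒜).Modules)

theorem Compat.frSmul {l k : ℕ} {a : A} (ha : a ∈ 𝒜 l) {σ : ∀ i, Γ(F, Proj.basicOpen 𝒜 (g i))}
    (hσ : Compat 𝒜 hg F k σ) : Compat 𝒜 hg F (l + k) fun i => ProjClosedLib.fr 𝒜 (hg i) ha • σ i := by
  intro i j V hi hj
  rw [res_smul, res_smul, hσ i j V hi hj, smul_smul, smul_smul, pow_add]
  change (resX hi _ * _) • _ = (_ * resX hj _) • _
  rw [show resX hi (ProjClosedLib.fr 𝒜 (hg i) ha) =
    resX hi (ProjClosedLib.fr 𝒜 (hg i) (hg j)) ^ l * resX hj (ProjClosedLib.fr 𝒜 (hg j) ha) from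
    ProjClosedLib.fr_change 𝒜 (hg j) (hg i) ha hi hj]
  exact congrArg (· • _) (mul_right_comm _ _ _)

/-- sections of the `k`-th twist, as compatible families -/
def famGroup (k : ℕ) : AddSubgroup (∀ i, Γ(F, Proj.basicOpen 𝒜 (g i))) where
  carrier := {σ | Compat 𝒜 hg F k σ}
  zero_mem' := fun i j V hi hj => by simp only [Pi.zero_apply, res, map_zero, smul_zero]
  add_mem' {σ τ} hσ hτ := fun i j V hi hj => by
    simp only [Pi.add_apply, res, map_add, smul_add]
    exact congr_arg₂ (· + ·) (hσ i j V hi hj) (hτ i j V hi hj)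
  neg_mem' {σ} hσ := fun i j V hi hj => by
    simp only [Pi.neg_apply, res, map_neg, smul_neg]
    exact congrArg Neg.neg (hσ i j V hi hj)

/-- its degree-`k` piece -/
abbrev Fam (k : ℕ) : Type u := famGroup hg F k

instance gSMul : GradedMonoid.GSMul (fun l => 𝒜 l) (Fam hg F) where
  smul {_ _} a σ := ⟨fun i => ProjClosedLib.fr 𝒜 (hg i) a.2 • σ.1 i, Compat.frSmul hg F a.2 σ.2⟩

lemma gsmul_apply {l k : ℕ} (a : 𝒜 l) (σ : Fam hg F k) (i : ι) :
    (GradedMonoid.GSMul.smul (A := fun l => 𝒜 l) a σ : Fam hg F (l +ᵥ k)).1 i = ProjClosedLib.fr 𝒜 (hg i) a.2 • σ.1 i := rfl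

instance gModule : DirectSum.Gmodule (fun l => 𝒜 l) (Fam hg F) where
  one_smul := fun ⟨k, σ⟩ => by
    refine Sigma.subtype_ext (zero_add k) (funext fun i => ?_)
    change ProjClosedLib.fr 𝒜 (hg i) _ • σ.1 i = σ.1 i
    rw [ProjClosedLib.fr_congr 𝒜 (hg i) (b := g i ^ 0) (pow_zero (g i)).symm _
      (by rw [pow_zero]; exact SetLike.GradedOne.one_mem), ProjClosedLib.fr_one, one_smul]
  mul_smul := fun ⟨l, a⟩ ⟨m, b⟩ ⟨k, σ⟩ => by
    refine Sigma.subtype_ext (add_assoc l m k) (funext fun i => ?_)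
    change ProjClosedLib.fr 𝒜 (hg i) (SetLike.mul_mem_graded a.2 b.2) • σ.1 i =
      ProjClosedLib.fr 𝒜 (hg i) a.2 • ProjClosedLib.fr 𝒜 (hg i) b.2 • σ.1 i
    rw [ProjClosedLib.fr_mul, mul_smul]
  smul_add a σ τ := Subtype.ext (funext fun i => smul_add _ _ _)
  smul_zero a := Subtype.ext (funext fun i => smul_zero _)
  add_smul a b σ := Subtype.ext (funext fun i => by
    change ProjClosedLib.fr 𝒜 (hg i) (add_mem a.2 b.2) • σ.1 i = _
    rw [ProjClosedLib.fr_add, add_smul]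
    rfl)
  zero_smul σ := Subtype.ext (funext fun i => by
    change ProjClosedLib.fr 𝒜 (hg i) (zero_mem _) • σ.1 i = _
    rw [ProjClosedLib.fr_zero, zero_smul]
    rfl)

/-- the graded module of twisted sections -/
abbrev Gam : Type u := ⨁ k, Fam hg F k

open scoped Classical in
instance modA : Module A (Gam hg F) := Module.compHom _ (DirectSum.decomposeRingEquiv 𝒜).toRingHom

instance modR : Module R (Gam hg F) := Module.compHom _ (algebraMap R A)

instance : IsScalarTower R A (Gam hg F) := ⟨fun r a x => by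
  rw [Algebra.smul_def, mul_smul]; rfl⟩

open scoped Classical in
lemma smul_of {l k : ℕ} {a : A} (ha : a ∈ 𝒜 l) (σ : Fam hg F k) :
    a • (DirectSum.of (Fam hg F) k σ : Gam hg F) =
      DirectSum.of (Fam hg F) (l + k)
        ⟨fun i => ProjClosedLib.fr 𝒜 (hg i) ha • σ.1 i, Compat.frSmul hg F ha σ.2⟩ := by
  change ((DirectSum.decompose 𝒜 a : ⨁ l, 𝒜 l) • (DirectSum.of (Fam hg F) k σ : Gam hg F) : Gam hg F) = _
  rw [DirectSum.decompose_of_mem 𝒜 ha, DirectSum.Gmodule.of_smul_of]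
  rfl

/-- the grading -/
def gr (k : ℕ) : Submodule R (Gam hg F) where
  carrier := Set.range (DirectSum.of (Fam hg F) k)
  zero_mem' := ⟨0, map_zero _⟩
  add_mem' := by rintro _ _ ⟨σ, rfl⟩ ⟨τ, rfl⟩; exact ⟨σ + τ, map_add _ _ _⟩
  smul_mem' := by
    rintro r _ ⟨σ, rfl⟩
    have h := smul_of hg F (SetLike.algebraMap_mem_graded 𝒜 r) σ
    refine ⟨⟨fun i => ProjClosedLib.fr 𝒜 (hg i) (SetLike.algebraMap_mem_graded 𝒜 r) • σ.1 i,
      Eq.mp (congrArg (fun n => Compat 𝒜 hg F n fun i => ProjClosedLib.fr 𝒜 (hg i) (SetLike.algebraMap_mem_graded 𝒜 r) • σ.1 i) (zero_add k)) (Compat.frSmul hg F (SetLike.algebraMap_mem_graded 𝒜 r) σ.2)⟩, ?_⟩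
    refine Eq.trans ?_ h.symm
    exact DirectSum.of_eq_of_gradedMonoid_eq (Sigma.subtype_ext (zero_add k).symm rfl)

instance gradedSMul : SetLike.GradedSMul 𝒜 (gr hg F) := ⟨fun _ _ a _ ha hx => by
  obtain ⟨σ, rfl⟩ := hx
  exact ⟨_, (smul_of hg F ha σ).symm⟩⟩

/-- the decomposition -/
def decomp : Gam hg F →+ ⨁ k, gr hg F k :=
  DirectSum.toAddMonoid fun k =>
    { toFun := fun σ => DirectSum.of (fun k => gr hg F k) k ⟨DirectSum.of (Fam hg F) k σ, σ, rfl⟩
      map_zero' := by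
        refine (congrArg _ (Subtype.ext ?_)).trans (map_zero _)
        exact map_zero _
      map_add' := fun σ τ => by
        refine (congrArg _ (Subtype.ext ?_)).trans (map_add _ _ _)
        exact map_add _ _ _ }

instance decomposition : DirectSum.Decomposition (gr hg F) where
  decompose' := decomp hg F
  left_inv x := by
    induction x using DirectSum.induction_on with
    | zero => simp
    | of k σ => rw [decomp, DirectSum.toAddMonoid_of]; exact DirectSum.coeAddMonoidHom_of _ _ _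
    | add x y hx hy => rw [map_add, map_add, hx, hy]
  right_inv x := by
    induction x using DirectSum.induction_on with
    | zero => simp
    | of k z =>
      obtain ⟨_, σ, rfl⟩ := z
      rw [DirectSum.coeAddMonoidHom_of, decomp, DirectSum.toAddMonoid_of]
      rfl
    | add x y hx hy => rw [map_add, map_add, hx, hy]

/-- the families of homogeneous elements -/
def data : GrData hg F (gr hg F) where
  ν k := AddMonoidHom.mk' (fun z => ((z : Gam hg F) k).1) (fun z w => rfl)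
  compat k z := ((z : Gam hg F) k).2
  smul l k a ha z h i := by
    obtain ⟨_, σ, rfl⟩ := z
    change ((a • (DirectSum.of (Fam hg F) k σ : Gam hg F)) (l + k)).1 i =
      ProjClosedLib.fr 𝒜 (hg i) ha • ((DirectSum.of (Fam hg F) k σ) k).1 i
    rw [smul_of hg F ha σ, DirectSum.of_eq_same, DirectSum.of_eq_same]

variable [Finite ι] [Coh.IsQCoh F]

theorem basicOpen_res_fr (h i : ι) {U : (Proj 𝒜).Opens} (hU : U ≤ Proj.basicOpen 𝒜 (g h)) :
    (Proj 𝒜).basicOpen (resX hU (ProjClosedLib.fr 𝒜 (hg h) (hg i))) = U ⊓ Proj.basicOpen 𝒜 (g i) := by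
  rw [resX, Scheme.basicOpen_res, ProjClosedLib.basicOpen_fr, ← inf_assoc, inf_eq_left.mpr hU]

/-- extending a section on a chart -/
theorem exists_extension (i : ι) (τ : Γ(F, Proj.basicOpen 𝒜 (g i))) :
    ∃ (k : ℕ) (σ : Fam hg F k), σ.1 i = τ := by
  classical
  let := Fintype.ofFinite ι
  have hD : ∀ h, IsAffineOpen (Proj.basicOpen 𝒜 (g h)) := fun h => Proj.isAffineOpen_basicOpen 𝒜 _ (hg h) one_pos
  let r := fun h => ProjClosedLib.fr 𝒜 (hg h) (hg i)
  have hbo : ∀ h, (Proj 𝒜).basicOpen (r h) = Proj.basicOpen 𝒜 (g h) ⊓ Proj.basicOpen 𝒜 (g i) :=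
    fun h => ProjClosedLib.basicOpen_fr 𝒜 (hg h) (hg i)
  have hle : ∀ h, (Proj 𝒜).basicOpen (r h) ≤ Proj.basicOpen 𝒜 (g i) := fun h => (hbo h).le.trans inf_le_right
  choose p τ₁ hτ₁ using fun h => (QCohLib.localizingAt_of_isQCoh (hD h) F (r h)).exists_extend (res F (hle h) τ)
  let P := Finset.univ.sup p
  let τ' : ∀ h, Γ(F, Proj.basicOpen 𝒜 (g h)) := fun h => r h ^ (P - p h) • τ₁ h
  have hτ' : ∀ (h : ι) (V : (Proj 𝒜).Opens) (h1 : V ≤ Proj.basicOpen 𝒜 (g h)) (h2 : V ≤ Proj.basicOpen 𝒜 (g i)),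
      res F h1 (τ' h) = resX h1 (r h) ^ P • res F h2 τ := by
    intro h V h1 h2
    have hV : V ≤ (Proj 𝒜).basicOpen (r h) := (le_inf h1 h2).trans (hbo h).ge
    have e := congrArg (res F hV) (hτ₁ h)
    rw [res_smul, map_pow] at e
    change res F hV (res F _ (τ₁ h)) = resX hV (resX _ (r h)) ^ p h • res F hV (res F _ τ) at e
    rw [res_res, res_res, resX_resX] at e
    rw [res_smul, map_pow, e, ← mul_smul]
    change (resX h1 (r h) ^ (P - p h) * resX _ (r h) ^ p h) • _ = _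
    rw [← pow_add, Nat.sub_add_cancel (Finset.le_sup (Finset.mem_univ h))]
  clear_value τ'
  have hl : ∀ h h' : ι, Proj.basicOpen 𝒜 (g h) ⊓ Proj.basicOpen 𝒜 (g h') ≤ Proj.basicOpen 𝒜 (g h) :=
    fun _ _ => inf_le_left
  have hr' : ∀ h h' : ι, Proj.basicOpen 𝒜 (g h) ⊓ Proj.basicOpen 𝒜 (g h') ≤ Proj.basicOpen 𝒜 (g h') :=
    fun _ _ => inf_le_right
  have hq : ∀ h h' : ι, ∃ q : ℕ, resX (hl h h') (r h) ^ q •
      (res F (hl h h') (τ' h) - resX (hl h h') (ProjClosedLib.fr 𝒜 (hg h) (hg h')) ^ P •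
        res F (hr' h h') (τ' h')) = 0 := by
    intro h h'
    let U := Proj.basicOpen 𝒜 (g h) ⊓ Proj.basicOpen 𝒜 (g h')
    have hUa : IsAffineOpen U := by
      have := (hD h).basicOpen (ProjClosedLib.fr 𝒜 (hg h) (hg h'))
      rwa [ProjClosedLib.basicOpen_fr] at this
    let c := resX (inf_le_left : U ≤ _) (r h)
    have hc : (Proj 𝒜).basicOpen c ≤ U ⊓ Proj.basicOpen 𝒜 (g i) := (basicOpen_res_fr hg h i inf_le_left).le
    have hc1 : (Proj 𝒜).basicOpen c ≤ U := (Proj 𝒜).basicOpen_le c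
    have hci : (Proj 𝒜).basicOpen c ≤ Proj.basicOpen 𝒜 (g i) := hc.trans inf_le_right
    obtain ⟨q, hq⟩ := (QCohLib.localizingAt_of_isQCoh hUa F c).eq_zero
      (res F (hl h h') (τ' h) - resX (hl h h') (ProjClosedLib.fr 𝒜 (hg h) (hg h')) ^ P •
        res F (hr' h h') (τ' h')) (by
      rw [map_sub, sub_eq_zero]
      change res F hc1 (res F _ (τ' h)) = res F hc1 (_ • res F _ (τ' h'))
      rw [res_smul, res_res, res_res, map_pow, hτ' h _ _ hci, hτ' h' _ _ hci, smul_smul, ← mul_pow]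
      change _ = (resX hc1 (resX _ _) * _) ^ P • _
      rw [resX_resX]
      refine congrArg (fun z => z ^ P • _) ?_
      refine (ProjClosedLib.fr_change 𝒜 (hg h') (hg h) (hg i) (hc1.trans inf_le_left) (hc1.trans inf_le_right)).trans ?_
      rw [pow_one])
    refine ⟨q, ?_⟩
    simp only [homOfLE_refl, op_id, CategoryTheory.Functor.map_id] at hq
    exact hq
  choose q hq using hq
  let Q := Finset.univ.sup fun z : ι × ι => q z.1 z.2
  let σ : ∀ h, Γ(F, Proj.basicOpen 𝒜 (g h)) := fun h => r h ^ Q • τ' h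
  refine ⟨Q + P, ⟨σ, fun h h' V hi hj => ?_⟩, ?_⟩
  · have e := congrArg (fun z => resX (inf_le_left : Proj.basicOpen 𝒜 (g h) ⊓ Proj.basicOpen 𝒜 (g h') ≤ _) (r h) ^
      (Q - q h h') • z) (hq h h')
    simp only [← mul_smul, ← pow_add, smul_zero] at e
    rw [Nat.sub_add_cancel (Finset.le_sup (f := fun z : ι × ι => q z.1 z.2) (Finset.mem_univ (h, h')))] at e
    have e' := congrArg (res F (le_inf hi hj)) e
    rw [res_smul, map_pow] at e'
    simp only [map_sub, map_zero] at e'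
    rw [smul_sub] at e'
    change resX _ (resX _ (r h)) ^ Q • (res F (le_inf hi hj) (res F _ (τ' h))) -
      resX _ (resX _ (r h)) ^ Q • res F (le_inf hi hj) (_ ^ P • res F _ (τ' h')) = 0 at e'
    rw [resX_resX, res_res, res_smul, res_res, map_pow, sub_eq_zero] at e'
    change _ = _ • (resX _ (resX _ _)) ^ P • _ at e'
    rw [resX_resX] at e'
    change res F hi (r h ^ Q • τ' h) = _ • res F hj (r h' ^ Q • τ' h')
    rw [res_smul, res_smul, map_pow, map_pow]
    change resX hi (r h) ^ Q • _ = _ • resX hj (r h') ^ Q • _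
    rw [e']
    rw [show resX hi (r h) = resX hi (ProjClosedLib.fr 𝒜 (hg h) (hg h')) ^ 1 * resX hj (r h') from
      ProjClosedLib.fr_change 𝒜 (hg h') (hg h) (hg i) hi hj]
    rw [smul_smul, smul_smul, pow_one, mul_pow, pow_add]
    exact congrArg (· • _) (mul_right_comm _ _ _)
  · change r i ^ Q • τ' i = τ
    have hr : r i = 1 :=
      (ProjClosedLib.fr_congr 𝒜 (hg i) (pow_one (g i)).symm _ (by rw [pow_one]; exact hg i)).trans
        (ProjClosedLib.fr_one 𝒜 (hg i) _)
    have e := hτ' i _ le_rfl le_rfl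
    rw [res_refl, res_refl, hr, resX, map_one, one_pow, one_smul] at e
    rw [hr, one_pow, one_smul, e]

/-- sections vanishing on a chart are killed by powers of its equation -/
theorem exists_pow_smul_eq_zero' (i : ι) {k : ℕ} (z : gr hg F k) (h0 : (data hg F).ν k z i = 0) :
    ∃ N : ℕ, g i ^ N • (z : Gam hg F) = 0 := by
  classical
  let := Fintype.ofFinite ι
  obtain ⟨_, σ, rfl⟩ := z
  change ((DirectSum.of (Fam hg F) k σ) k).1 i = 0 at h0
  rw [DirectSum.of_eq_same] at h0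
  have hN : ∀ h, ∃ N : ℕ, ProjClosedLib.fr 𝒜 (hg h) (hg i) ^ N • σ.1 h = 0 := by
    intro h
    obtain ⟨N, hN⟩ := (QCohLib.localizingAt_of_isQCoh (Proj.isAffineOpen_basicOpen 𝒜 _ (hg h) one_pos) F
      (ProjClosedLib.fr 𝒜 (hg h) (hg i))).eq_zero (σ.1 h) (by
        have hle : (Proj 𝒜).basicOpen (ProjClosedLib.fr 𝒜 (hg h) (hg i)) ≤ Proj.basicOpen 𝒜 (g i) :=
          (ProjClosedLib.basicOpen_fr 𝒜 (hg h) (hg i)).le.trans inf_le_right
        have e := σ.2 h i _ ((Proj 𝒜).basicOpen_le _) hle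
        rw [h0] at e
        simp only [res, map_zero, smul_zero] at e
        exact e)
    refine ⟨N, ?_⟩
    simp only [homOfLE_refl, op_id, CategoryTheory.Functor.map_id] at hN
    exact hN
  choose N hN using hN
  refine ⟨Finset.univ.sup N, ?_⟩
  have hgN : g i ^ Finset.univ.sup N ∈ 𝒜 (Finset.univ.sup N) := by
    simpa using SetLike.pow_mem_graded (Finset.univ.sup N) (hg i)
  change g i ^ Finset.univ.sup N • (DirectSum.of (Fam hg F) k σ : Gam hg F) = 0
  rw [smul_of hg F hgN σ]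
  refine (congrArg _ ?_).trans (map_zero _)
  refine Subtype.ext (funext fun h => ?_)
  change ProjClosedLib.fr 𝒜 (hg h) hgN • σ.1 h = 0
  rw [ProjClosedLib.fr_pow 𝒜 (hg h) (hg i), ← Nat.sub_add_cancel (Finset.le_sup (f := N) (Finset.mem_univ h)),
    pow_add, mul_smul, hN, smul_zero]

theorem exists_of_nu (i : ι) (τ : Γ(F, Proj.basicOpen 𝒜 (g i))) :
    ∃ (k : ℕ) (z : gr hg F k), (data hg F).ν k z i = τ := by
  obtain ⟨k, σ, hσ⟩ := exists_extension hg F i τ
  refine ⟨k, ⟨DirectSum.of (Fam hg F) k σ, σ, rfl⟩, ?_⟩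
  change ((DirectSum.of (Fam hg F) k σ) k).1 i = τ
  rw [DirectSum.of_eq_same, hσ]

end GrTildeLib

end
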