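import Groth.Agent.GrTildeLib.Fam
import Groth.Agent.GrTildeLib.IsoCrit
import Groth.Agent.GrTildeLib.Twist

/-!
# The morphism `M~ ⟶ F` attached to a graded module of twisted sections
-/

set_option autoImplicit false
universe u

open CategoryTheory CategoryTheory.Limits AlgebraicGeometry TopologicalSpace Opposite TopCat HomogeneousLocalization
open AmpleLib (res res_res res_smul res_refl)

noncomputable section

namespace GrTildeLib

variable {R A : Type u} [CommRing R] [CommRing A] [Algebra R A] {𝒜 : ℕ → Submodule R A} [GradedAlgebra 𝒜]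
  {M : Type u} [AddCommGroup M] [Module R M] [Module A M] {ℳ : ℕ → Submodule R M} [SetLike.GradedSMul 𝒜 ℳ]
  [DirectSum.Decomposition ℳ]
  {ι : Type u} {g : ι → A} {hg : ∀ i, g i ∈ 𝒜 1} {F : (Proj 𝒜).Modules} (D : GrData hg F ℳ)

/-- one fraction of degree zero around each point -/
theorem exists_rep {W : (Proj 𝒜).Opens} (t : Γ(GrTilde.tilde 𝒜 ℳ 0, W)) (x : W) :
    ∃ (V : (Proj 𝒜).Opens) (_ : x.1 ∈ V) (hW : V ≤ W) (k : ℕ) (z : ℳ k) (s : A) (_ : s ∈ 𝒜 k)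
      (hnin : ∀ v : V, s ∉ v.1.asHomogeneousIdeal),
        ∀ v : V, val t ⟨v.1, hW v.2⟩ = LocalizedModule.mk (z : M) ⟨s, hnin v⟩ := by
  obtain ⟨V, hxV, hW, i, j, m, s, hm, hs, hnin, hdeg, hval⟩ := val_exists t x
  refine ⟨V, hxV, hW, j, ⟨m, ?_⟩, s, hs, hnin, hval⟩
  rcases hdeg with h | h
  · rwa [show j = i by omega]
  · rw [h]; exact zero_mem _

/-- `y` is the image of `t` -/
def IsImg {W : (Proj 𝒜).Opens} (t : Γ(GrTilde.tilde 𝒜 ℳ 0, W)) (y : Γ(F, W)) : Prop :=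
  ∀ (i : ι) (k : ℕ) (z : ℳ k) (s : A) (hs : s ∈ 𝒜 k) (V : (Proj 𝒜).Opens) (hW : V ≤ W)
    (hD : V ≤ Proj.basicOpen 𝒜 (g i)) (hnin : ∀ v : V, s ∉ v.1.asHomogeneousIdeal),
    (∀ v : V, val t ⟨v.1, hW v.2⟩ = LocalizedModule.mk (z : M) ⟨s, hnin v⟩) →
      resX hD (ProjClosedLib.fr 𝒜 (hg i) hs) • res F hW y = res F hD (D.ν k z i)

theorem IsImg.mono {W W' : (Proj 𝒜).Opens} (h : W' ≤ W) {t : Γ(GrTilde.tilde 𝒜 ℳ 0, W)} {y : Γ(F, W)}
    (hy : IsImg D t y) : IsImg D ((GrTilde.tilde 𝒜 ℳ 0).presheaf.map (homOfLE h).op t) (res F h y) :=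
  fun i k z s hs V hW hD hnin hv => by
    rw [res_res]
    exact hy i k z s hs V (hW.trans h) hD hnin fun v => hv v

theorem eq_of_locally {W : (Proj 𝒜).Opens} {a b : Γ(F, W)}
    (h : ∀ x : W, ∃ (V : (Proj 𝒜).Opens) (_ : x.1 ∈ V) (hV : V ≤ W), res F hV a = res F hV b) : a = b := by
  choose V hxV hV he using h
  exact TopCat.Sheaf.eq_of_locally_eq' ⟨F.presheaf, F.isSheaf⟩ V W (fun x => homOfLE (hV x))
    (fun x hx => Opens.mem_iSup.mpr ⟨⟨x, hx⟩, hxV ⟨x, hx⟩⟩) a b fun x => he x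

theorem isImg_of_rep {V : (Proj 𝒜).Opens} {t : Γ(GrTilde.tilde 𝒜 ℳ 0, V)} {i : ι} {k : ℕ} (z : ℳ k) {s : A}
    (hs : s ∈ 𝒜 k) (hD : V ≤ Proj.basicOpen 𝒜 (g i)) (hnin : ∀ v : V, s ∉ v.1.asHomogeneousIdeal)
    (ht : ∀ v : V, val t v = LocalizedModule.mk (z : M) ⟨s, hnin v⟩) {y : Γ(F, V)}
    (hy : resX hD (ProjClosedLib.fr 𝒜 (hg i) hs) • y = res F hD (D.ν k z i)) : IsImg D t y := by
  intro j k' z' s' hs' V' hW hD' hnin' ht'
  have hDi : V' ≤ Proj.basicOpen 𝒜 (g i) := hW.trans hD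
  -- change of chart
  rw [D.compat k' z' j i V' hD' hDi, show resX hD' (ProjClosedLib.fr 𝒜 (hg j) hs') =
    resX hD' (ProjClosedLib.fr 𝒜 (hg j) (hg i)) ^ k' * resX hDi (ProjClosedLib.fr 𝒜 (hg i) hs') from
      ProjClosedLib.fr_change 𝒜 (hg i) (hg j) hs' hD' hDi, mul_smul]
  congr 1
  refine eq_of_locally fun x => ?_
  obtain ⟨e, f, he, hf, hxf, hfV⟩ := exists_homogeneous_basicOpen 𝒜 x.2
  refine ⟨Proj.basicOpen 𝒜 f, hxf, hfV, ?_⟩
  have h1 : s' • (z : M) ∈ ℳ (k' + k) := SetLike.GradedSMul.smul_mem hs' z.2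
  have h2' : s • (z' : M) ∈ ℳ (k + k') := SetLike.GradedSMul.smul_mem hs z'.2
  have h2 : s • (z' : M) ∈ ℳ (k' + k) := by rwa [add_comm]
  obtain ⟨N, hN⟩ := exists_pow_smul_eq (ℳ := ℳ) he hf h1 h2 (fun y hy => hnin ⟨y, hW (hfV hy)⟩)
    (fun y hy => hnin' ⟨y, hfV hy⟩) (fun y hy => (ht ⟨y, hW (hfV hy)⟩).symm.trans (ht' ⟨y, hfV hy⟩))
  have hfN : f ^ N ∈ 𝒜 (N • e) := SetLike.pow_mem_graded N hf
  have m1 : f ^ N • (s' • (z : M)) ∈ ℳ (N • e + (k' + k)) := SetLike.GradedSMul.smul_mem hfN h1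
  have m2 : f ^ N • (s • (z' : M)) ∈ ℳ (N • e + (k + k')) := SetLike.GradedSMul.smul_mem hfN h2'
  have e0 : D.ν (N • e + (k' + k)) ⟨_, m1⟩ i = D.ν (N • e + (k + k')) ⟨_, m2⟩ i := by
    have key : ∀ (p q : ℕ) (u : ℳ p) (w : ℳ q), p = q → (u : M) = w → D.ν p u i = D.ν q w i := by
      intro p q u w hpq huw; subst hpq; rw [Subtype.ext huw]
    exact key _ _ _ _ (by rw [add_comm k' k]) hN
  rw [D.smul _ _ _ hfN ⟨_, h1⟩ m1 i, D.smul _ _ _ hfN ⟨_, h2'⟩ m2 i, D.smul _ _ _ hs' z h1 i,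
    D.smul _ _ _ hs z' h2' i] at e0
  have hDf : Proj.basicOpen 𝒜 f ≤ Proj.basicOpen 𝒜 (g i) := hfV.trans hDi
  replace e0 := congrArg (res F hDf) e0
  simp only [res_smul] at e0
  have hu : IsUnit (resX hDf (ProjClosedLib.fr 𝒜 (hg i) hfN)) :=
    isUnit_fr (hg i) hfN hDf fun w hw => w.2 (w.1.isPrime.mem_of_pow_mem N hw)
  have hus : IsUnit (resX hDf (ProjClosedLib.fr 𝒜 (hg i) hs)) :=
    isUnit_fr (hg i) hs hDf fun w => hnin ⟨w.1, hW (hfV w.2)⟩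
  have e1 := hu.smul_left_cancel.mp e0
  have hy' := congrArg (res F (hfV.trans hW)) hy
  rw [res_smul, res_res] at hy'
  change resX (hfV.trans hW) (resX hD _) • _ = _ at hy'
  rw [resX_resX] at hy'
  rw [res_smul, res_res, res_res]
  change resX hfV (resX hDi _) • _ = _
  rw [resX_resX]
  refine hus.smul_left_cancel.mp ?_
  rw [smul_comm, hy']
  exact e1

theorem IsImg.unique {W : (Proj 𝒜).Opens} (hcov : ∀ x : Proj 𝒜, ∃ i, x ∈ Proj.basicOpen 𝒜 (g i))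
    {t : Γ(GrTilde.tilde 𝒜 ℳ 0, W)} {y y' : Γ(F, W)} (hy : IsImg D t y) (hy' : IsImg D t y') : y = y' := by
  refine eq_of_locally fun x => ?_
  obtain ⟨V, hxV, hW, k, z, s, hs, hnin, hval⟩ := exists_rep t x
  obtain ⟨i, hi⟩ := hcov x.1
  refine ⟨V ⊓ Proj.basicOpen 𝒜 (g i), ⟨hxV, hi⟩, inf_le_left.trans hW, ?_⟩
  have h1 := hy i k z s hs _ (inf_le_left.trans hW) inf_le_right (fun v => hnin ⟨v.1, v.2.1⟩)
    (fun v => hval ⟨v.1, v.2.1⟩)
  have h2 := hy' i k z s hs _ (inf_le_left.trans hW) inf_le_right (fun v => hnin ⟨v.1, v.2.1⟩)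
    (fun v => hval ⟨v.1, v.2.1⟩)
  exact (isUnit_fr (hg i) hs inf_le_right fun v => hnin ⟨v.1, v.2.1⟩).smul_left_cancel.mp (h1.trans h2.symm)

theorem exists_isImg (hcov : ∀ x : Proj 𝒜, ∃ i, x ∈ Proj.basicOpen 𝒜 (g i)) {W : (Proj 𝒜).Opens}
    (t : Γ(GrTilde.tilde 𝒜 ℳ 0, W)) : ∃! y : Γ(F, W), IsImg D t y := by
  choose V hxV hW k z s hs hnin hval using exists_rep t
  choose i hi using fun x : W => hcov x.1
  let V' := fun x : W => V x ⊓ Proj.basicOpen 𝒜 (g (i x))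
  have hu : ∀ x, IsUnit (resX (inf_le_right : V' x ≤ _) (ProjClosedLib.fr 𝒜 (hg (i x)) (hs x))) :=
    fun x => isUnit_fr (hg (i x)) (hs x) inf_le_right fun v => hnin x ⟨v.1, v.2.1⟩
  let y : ∀ x, Γ(F, V' x) := fun x => (↑(hu x).unit⁻¹ : Γ(Proj 𝒜, V' x)) •
    res F inf_le_right (D.ν (k x) (z x) (i x))
  have hy : ∀ x, IsImg D ((GrTilde.tilde 𝒜 ℳ 0).presheaf.map
      (homOfLE (inf_le_left.trans (hW x) : V' x ≤ W)).op t) (y x) := fun x =>
    isImg_of_rep D (z x) (hs x) inf_le_right (fun v => hnin x ⟨v.1, v.2.1⟩) (fun v => hval x ⟨v.1, v.2.1⟩)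
      (by rw [smul_smul, IsUnit.mul_val_inv, one_smul])
  obtain ⟨Y, hY, -⟩ := TopCat.Sheaf.existsUnique_gluing' (F := ⟨F.presheaf, F.isSheaf⟩) V' W
    (fun x => homOfLE (inf_le_left.trans (hW x)))
    (fun x hx => Opens.mem_iSup.mpr ⟨⟨x, hx⟩, hxV _, hi _⟩) y
    (fun a b => IsImg.unique D hcov (W := V' a ⊓ V' b) ((hy a).mono D inf_le_left) ((hy b).mono D inf_le_right))
  refine ⟨Y, fun j k' z' s' hs' U hU hD hnin' hv => ?_, fun Y' hY' => ?_⟩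
  · refine eq_of_locally fun x => ?_
    let a : W := ⟨x.1, hU x.2⟩
    refine ⟨U ⊓ V' a, ⟨x.2, hxV a, hi a⟩, inf_le_left, ?_⟩
    have h1 := hy a j k' z' s' hs' (U ⊓ V' a) inf_le_right (inf_le_left.trans hD) (fun v => hnin' ⟨v.1, v.2.1⟩)
      (fun v => hv ⟨v.1, v.2.1⟩)
    rw [← show res F _ Y = y a from hY a, res_res] at h1
    rw [res_smul, res_res, res_res]
    change resX inf_le_left (resX hD _) • _ = _
    rw [resX_resX]
    exact h1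
  · refine eq_of_locally fun x => ⟨V' x, ⟨hxV x, hi x⟩, inf_le_left.trans (hW x), ?_⟩
    exact (IsImg.unique D hcov (hY'.mono D _) (hy x)).trans (hY x).symm

theorem exists_hom (hcov : ∀ x : Proj 𝒜, ∃ i, x ∈ Proj.basicOpen 𝒜 (g i)) :
    ∃ φ : GrTilde.tilde 𝒜 ℳ 0 ⟶ F, ∀ (W : (Proj 𝒜).Opens) (t : Γ(GrTilde.tilde 𝒜 ℳ 0, W)),
      IsImg D t (φ.app W t) := by
  classical
  choose β hβ hβu using fun W t => exists_isImg D hcov (W := W) t
  have hadd : ∀ (W : (Proj 𝒜).Opens) (t t' : Γ(GrTilde.tilde 𝒜 ℳ 0, W)), β W (t + t') = β W t + β W t' := by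
    intro W t t'
    refine eq_of_locally fun x => ?_
    obtain ⟨V, hxV, hW, k, z, s, hs, hnin, hval⟩ := exists_rep t x
    obtain ⟨V₂, hxV₂, hW₂, k₂, z₂, s₂, hs₂, hnin₂, hval₂⟩ := exists_rep t' x
    obtain ⟨i, hi⟩ := hcov x.1
    let U := V ⊓ V₂ ⊓ Proj.basicOpen 𝒜 (g i)
    have hUV : U ≤ V := inf_le_left.trans inf_le_left
    have hUV₂ : U ≤ V₂ := inf_le_left.trans inf_le_right
    refine ⟨U, ⟨⟨hxV, hxV₂⟩, hi⟩, hUV.trans hW, ?_⟩
    have h1' : s₂ • (z : M) ∈ ℳ (k₂ + k) := SetLike.GradedSMul.smul_mem hs₂ z.2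
    have h1 : s₂ • (z : M) ∈ ℳ (k + k₂) := by rwa [add_comm]
    have h2 : s • (z₂ : M) ∈ ℳ (k + k₂) := SetLike.GradedSMul.smul_mem hs z₂.2
    refine IsImg.unique D hcov ((hβ W (t + t')).mono D _) (isImg_of_rep D (⟨_, add_mem h1 h2⟩ : ℳ (k + k₂))
      (SetLike.mul_mem_graded hs hs₂) inf_le_right
      (fun v h => (v.1.isPrime.mem_or_mem h).elim (hnin ⟨v.1, hUV v.2⟩) (hnin₂ ⟨v.1, hUV₂ v.2⟩)) (fun v => ?_) ?_)
    · rw [val_res, val_add]
      exact (congr_arg₂ (· + ·) (hval ⟨v.1, hUV v.2⟩) (hval₂ ⟨v.1, hUV₂ v.2⟩)).trans LocalizedModule.mk_add_mk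
    · have e1 := hβ W t i k z s hs U (hUV.trans hW) inf_le_right (fun v => hnin ⟨v.1, hUV v.2⟩)
        (fun v => hval ⟨v.1, hUV v.2⟩)
      have e2 := hβ W t' i k₂ z₂ s₂ hs₂ U (hUV₂.trans hW₂) inf_le_right (fun v => hnin₂ ⟨v.1, hUV₂ v.2⟩)
        (fun v => hval₂ ⟨v.1, hUV₂ v.2⟩)
      have key : ∀ (p q : ℕ) (u : ℳ p) (w : ℳ q), p = q → (u : M) = w → D.ν p u i = D.ν q w i := by
        intro p q u w hpq huw; subst hpq; rw [Subtype.ext huw]
      rw [show (⟨_, add_mem h1 h2⟩ : ℳ (k + k₂)) = ⟨_, h1⟩ + ⟨_, h2⟩ from rfl, map_add, Pi.add_apply,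
        key (k + k₂) (k₂ + k) ⟨_, h1⟩ ⟨_, h1'⟩ (add_comm _ _) rfl, D.smul _ _ _ hs₂ z h1' i,
        D.smul _ _ _ hs z₂ h2 i, ProjClosedLib.fr_mul 𝒜 (hg i) hs hs₂]
      simp only [map_add, resX, map_mul] at e1 e2 ⊢
      change _ = AmpleLib.res F _ (_ • _) + AmpleLib.res F _ (_ • _)
      rw [res_smul, res_smul, smul_add, ← e1, ← e2, smul_smul, smul_smul]
      exact congr_arg₂ (· + ·) (congrArg (· • _) (mul_comm _ _)) rfl
  have hlin : ∀ (W : (Proj 𝒜).Opens) (r : Γ(Proj 𝒜, W)) (t : Γ(GrTilde.tilde 𝒜 ℳ 0, W)),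
      β W (r • t) = r • β W t := by
    intro W r t
    refine eq_of_locally fun x => ?_
    obtain ⟨V, hxV, hW, k, z, s, hs, hnin, hval⟩ := exists_rep t x
    obtain ⟨V₂, hxV₂, ι₂, l, ⟨a, ha⟩, ⟨b, hb⟩, hbnin, hr⟩ := (show Twist.O (op W) from r).2 x
    obtain ⟨i, hi⟩ := hcov x.1
    let U := V ⊓ V₂ ⊓ Proj.basicOpen 𝒜 (g i)
    have hUV : U ≤ V := inf_le_left.trans inf_le_left
    have hUV₂ : U ≤ V₂ := inf_le_left.trans inf_le_right
    refine ⟨U, ⟨⟨hxV, hxV₂⟩, hi⟩, hUV.trans hW, ?_⟩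
    have h1 : a • (z : M) ∈ ℳ (l + k) := SetLike.GradedSMul.smul_mem ha z.2
    refine IsImg.unique D hcov ((hβ W (r • t)).mono D _) (isImg_of_rep D (⟨_, h1⟩ : ℳ (l + k))
      (SetLike.mul_mem_graded hb hs) inf_le_right
      (fun v h => (v.1.isPrime.mem_or_mem h).elim (hbnin ⟨v.1, hUV₂ v.2⟩) (hnin ⟨v.1, hUV v.2⟩)) (fun v => ?_) ?_)
    · rw [val_res, val_smul]
      refine (congr_arg₂ (fun c w => c • w) ((congrArg HomogeneousLocalization.val (hr ⟨v.1, hUV₂ v.2⟩)).trans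
        (HomogeneousLocalization.val_mk _)) (hval ⟨v.1, hUV v.2⟩)).trans ?_
      exact LocalizedModule.mk_smul_mk _ _ _ _
    · have hbr : resX (inf_le_right : U ≤ _) (ProjClosedLib.fr 𝒜 (hg i) hb) * resX (hUV.trans hW) r =
          resX (inf_le_right : U ≤ _) (ProjClosedLib.fr 𝒜 (hg i) ha) := by
        refine Subtype.ext (funext fun v => HomogeneousLocalization.val_injective _ ?_)
        refine Eq.trans ?_ (val_fr (hg i) ha inf_le_right v).symm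
        change (((show Twist.O (op U) from resX _ (ProjClosedLib.fr 𝒜 (hg i) hb)).1 v) *
          ((show Twist.O (op W) from r).1 ⟨v.1, hW (hUV v.2)⟩)).val = _
        rw [HomogeneousLocalization.val_mul, val_fr]
        refine (congrArg (_ * ·) ((congrArg HomogeneousLocalization.val (hr ⟨v.1, hUV₂ v.2⟩)).trans
          (HomogeneousLocalization.val_mk _))).trans ?_
        rw [Localization.mk_mul, Localization.mk_eq_mk_iff, Localization.r_iff_exists]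
        refine ⟨1, ?_⟩
        simp only [OneMemClass.coe_one, Submonoid.coe_mul, one_mul]
        ring
      have e1 := hβ W t i k z s hs U (hUV.trans hW) inf_le_right (fun v => hnin ⟨v.1, hUV v.2⟩)
        (fun v => hval ⟨v.1, hUV v.2⟩)
      rw [D.smul _ _ _ ha z h1 i, res_smul, res_smul, ← e1, ProjClosedLib.fr_mul 𝒜 (hg i) hb hs]
      change resX inf_le_right _ • (resX _ r • _) = resX _ _ • (resX _ _ • _)
      rw [resX, map_mul, smul_smul, smul_smul, ← hbr]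
      exact congrArg (· • _) (mul_right_comm _ _ _)
  have hnat : ∀ {W W' : (Proj 𝒜).Opens} (h : W' ≤ W) (t : Γ(GrTilde.tilde 𝒜 ℳ 0, W)),
      β W' ((GrTilde.tilde 𝒜 ℳ 0).presheaf.map (homOfLE h).op t) = res F h (β W t) :=
    fun h t => IsImg.unique D hcov (hβ _ _) ((hβ _ t).mono D h)
  refine ⟨⟨PresheafOfModules.homMk (M₁ := (GrTilde.tilde 𝒜 ℳ 0).val) (M₂ := F.val)
    { app := fun W => AddCommGrpCat.ofHom
        (AddMonoidHom.mk' (fun t : Γ(GrTilde.tilde 𝒜 ℳ 0, W.unop) => β W.unop t) (hadd W.unop))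
      naturality := fun W W' j => by
        ext t
        exact hnat j.unop.le t }
    (fun W r t => hlin W.unop r t)⟩, fun W t => hβ W t⟩

/-- the criterion -/
theorem exists_iso (hcov : ∀ x : Proj 𝒜, ∃ i, x ∈ Proj.basicOpen 𝒜 (g i)) [Coh.IsQCoh F]
    (hinj : ∀ (k : ℕ) (z : ℳ k) (i : ι), D.ν k z i = 0 → ∃ N : ℕ, g i ^ N • (z : M) = 0)
    (hsurj : ∀ i, Submodule.span Γ(Proj 𝒜, Proj.basicOpen 𝒜 (g i))
      {w | ∃ (k : ℕ) (z : ℳ k), D.ν k z i = w} = ⊤) :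
    Nonempty (GrTilde.tilde 𝒜 ℳ 0 ≅ F) := by
  obtain ⟨φ, hφ⟩ := exists_hom D hcov
  have := isQCoh_tilde (𝒜 := 𝒜) (ℳ := ℳ) 0
  have hone : ∀ (i : ι) (k : ℕ) (h : g i ^ k ∈ 𝒜 k),
      resX (le_refl (Proj.basicOpen 𝒜 (g i))) (ProjClosedLib.fr 𝒜 (hg i) h) = 1 := fun i k h => by
    rw [ProjClosedLib.fr_one, resX, map_one]
  have hgk : ∀ (i : ι) (k : ℕ), g i ^ k ∈ 𝒜 k := fun i k => by simpa using SetLike.pow_mem_graded k (hg i)
  have : IsIso φ := by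
    refine isIso_of_bijective_cover φ (fun i => Proj.basicOpen 𝒜 (g i))
      (fun i => Proj.isAffineOpen_basicOpen 𝒜 _ (hg i) one_pos)
      (eq_top_iff.mpr fun x _ => Opens.mem_iSup.mpr (hcov x)) fun i => ?_
    refine ⟨(injective_iff_map_eq_zero (φ.app _).hom).mpr fun t ht => ?_, fun w => ?_⟩
    · obtain ⟨k, j, m, hm, hj, hval⟩ := exists_eq_frac one_pos (hg i) t
      obtain rfl : j = k := by omega
      have h1 := hφ _ t i j ⟨m, hm⟩ _ (hgk i j) _ le_rfl le_rfl (fun v => pow_nin v j) hval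
      rw [hone, one_smul, res_refl, res_refl, show φ.app _ t = 0 from ht] at h1
      obtain ⟨N, hN⟩ := hinj j ⟨m, hm⟩ i h1.symm
      refine sec_ext fun v => (hval v).trans ?_
      rw [val_zero, ← LocalizedModule.zero_mk 1, LocalizedModule.mk_eq]
      refine ⟨⟨g i ^ N, pow_nin v N⟩, ?_⟩
      simp only [Submonoid.smul_def, OneMemClass.coe_one, one_smul, smul_zero]
      exact hN
    · have hle : Submodule.span Γ(Proj 𝒜, Proj.basicOpen 𝒜 (g i)) {w | ∃ (k : ℕ) (z : ℳ k), D.ν k z i = w} ≤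
          LinearMap.range (φ.val.app (op (Proj.basicOpen 𝒜 (g i)))).hom := by
        refine Submodule.span_le.mpr ?_
        rintro _ ⟨k, z, rfl⟩
        refine ⟨fracSec (n := 0) z.2 (hgk i k) (by simp) (fun v => pow_nin v k), ?_⟩
        have h1 := hφ (Proj.basicOpen 𝒜 (g i)) (fracSec (n := 0) z.2 (hgk i k) (by simp) (fun v => pow_nin v k))
          i k z _ (hgk i k) _ le_rfl le_rfl (fun v => pow_nin v k) fun v => rfl
        rw [hone, one_smul, res_refl, res_refl] at h1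
        exact h1
      exact hle ((hsurj i).ge Submodule.mem_top)
  exact ⟨asIso φ⟩

end GrTildeLib

end
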