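import Groth.Agent.GrTildeLib.Chart
import Groth.Agent.ProjClosedLib.Frac

/-!
# Changing charts for degree-one covers
-/

set_option autoImplicit false
universe u

open CategoryTheory CategoryTheory.Limits AlgebraicGeometry TopologicalSpace Opposite TopCat HomogeneousLocalization

noncomputable section

namespace GrTildeLib

variable {R A : Type u} [CommRing R] [CommRing A] [Algebra R A] {𝒜 : ℕ → Submodule R A} [GradedAlgebra 𝒜]

/-- restriction of functions -/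
abbrev resX {W V : (Proj 𝒜).Opens} (h : W ≤ V) (a : Γ(Proj 𝒜, V)) : Γ(Proj 𝒜, W) :=
  (Proj 𝒜).presheaf.map (homOfLE h).op a

lemma resX_resX {U W V : (Proj 𝒜).Opens} (h : W ≤ V) (h' : U ≤ W) (a : Γ(Proj 𝒜, V)) :
    resX h' (resX h a) = resX (h'.trans h) a :=
  QCohLib.ringMap_map' (homOfLE h') (homOfLE h) a

/-- the value of a fraction -/
lemma val_fr {g : A} (hg : g ∈ 𝒜 1) {k : ℕ} {a : A} (ha : a ∈ 𝒜 k) {W : (Proj 𝒜).Opens}
    (hW : W ≤ Proj.basicOpen 𝒜 g) (x : W) :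
    ((show Twist.O (op W) from resX hW (ProjClosedLib.fr 𝒜 hg ha)).1 x).val =
      Localization.mk a ⟨g ^ k, pow_nin ⟨x.1, hW x.2⟩ k⟩ :=
  val_awayToSection hg _ ⟨x.1, hW x.2⟩

lemma isUnit_fr {g : A} (hg : g ∈ 𝒜 1) {k : ℕ} {a : A} (ha : a ∈ 𝒜 k) {W : (Proj 𝒜).Opens}
    (hW : W ≤ Proj.basicOpen 𝒜 g) (hnin : ∀ x : W, a ∉ x.1.asHomogeneousIdeal) :
    IsUnit (resX hW (ProjClosedLib.fr 𝒜 hg ha)) := by
  have hle : W ≤ (Proj 𝒜).basicOpen (ProjClosedLib.fr 𝒜 hg ha) := by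
    intro x hx
    rw [ProjClosedLib.fr, basicOpen_awayToSection hg one_pos]
    exact fun h => (x.isPrime.mem_or_mem h).elim (hW hx) (hnin ⟨x, hx⟩)
  exact QCohLib.isUnit_res _ hle

variable (𝒜)

/-- a family of sections on the charts which glue to a section of the `k`-th twist -/
def Compat {ι : Type*} {g : ι → A} (hg : ∀ i, g i ∈ 𝒜 1) (F : (Proj 𝒜).Modules) (k : ℕ)
    (σ : ∀ i, Γ(F, Proj.basicOpen 𝒜 (g i))) : Prop :=
  ∀ (i j : ι) (V : (Proj 𝒜).Opens) (hi : V ≤ Proj.basicOpen 𝒜 (g i)) (hj : V ≤ Proj.basicOpen 𝒜 (g j)),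
    AmpleLib.res F hi (σ i) = resX hi (ProjClosedLib.fr 𝒜 (hg i) (hg j)) ^ k • AmpleLib.res F hj (σ j)

variable {𝒜}

/-- a graded module mapped to the twisted sections of `F` -/
structure GrData {ι : Type*} {g : ι → A} (hg : ∀ i, g i ∈ 𝒜 1) (F : (Proj 𝒜).Modules)
    {M : Type u} [AddCommGroup M] [Module R M] [Module A M] (ℳ : ℕ → Submodule R M) where
  /-- the family attached to a homogeneous element -/
  ν : ∀ k : ℕ, ℳ k →+ ∀ i, Γ(F, Proj.basicOpen 𝒜 (g i))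
  compat : ∀ (k : ℕ) (z : ℳ k), Compat 𝒜 hg F k (ν k z)
  smul : ∀ (l k : ℕ) (a : A) (ha : a ∈ 𝒜 l) (z : ℳ k) (h : a • (z : M) ∈ ℳ (l + k)) (i : ι),
    ν (l + k) ⟨a • (z : M), h⟩ i = ProjClosedLib.fr 𝒜 (hg i) ha • ν k z i

end GrTildeLib

end
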