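import Groth.Agent.GrTildeLib.Basic
import Mathlib.Topology.Sheaves.LocalPredicate

/-!
# Stalks
-/

set_option autoImplicit false
universe u

open CategoryTheory CategoryTheory.Limits AlgebraicGeometry TopologicalSpace Opposite TopCat

noncomputable section

namespace GrTildeLib

variable {R A : Type u} [CommRing R] [CommRing A] [Algebra R A] (𝒜 : ℕ → Submodule R A) [GradedAlgebra 𝒜]
  {M : Type u} [AddCommGroup M] [Module R M] [Module A M] (ℳ : ℕ → Submodule R M) [SetLike.GradedSMul 𝒜 ℳ]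
  [DirectSum.Decomposition ℳ]

/-- every element of `tildeAt` is one fraction -/
theorem exists_frac (n : ℤ) (x : ProjectiveSpectrum 𝒜) (q : GrTilde.tildeAt 𝒜 ℳ n x) :
    ∃ (i j : ℕ) (m : M) (s : A) (_ : m ∈ ℳ i) (_ : s ∈ 𝒜 j) (hs : s ∉ x.asHomogeneousIdeal),
      ((i : ℤ) = j + n ∨ m = 0) ∧ (q : GrTilde.LocMod 𝒜 x) = LocalizedModule.mk m ⟨s, hs⟩ := by
  obtain ⟨q, hq⟩ := q
  change ∃ (i j : ℕ) (m : M) (s : A) (_ : m ∈ ℳ i) (_ : s ∈ 𝒜 j) (hs : s ∉ x.asHomogeneousIdeal),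
      ((i : ℤ) = j + n ∨ m = 0) ∧ q = LocalizedModule.mk m ⟨s, hs⟩
  have h1 : (1 : A) ∉ x.asHomogeneousIdeal := fun h => x.isPrime.ne_top ((Ideal.eq_top_iff_one _).mpr h)
  induction hq using Submodule.span_induction with
  | mem q hq =>
    obtain ⟨i, j, m, s, hs, h, rfl⟩ := hq
    exact ⟨i, j, m.1, s.1, m.2, s.2, hs, Or.inl h, rfl⟩
  | zero => exact ⟨0, 0, 0, 1, zero_mem _, SetLike.GradedOne.one_mem, h1, Or.inr rfl, (LocalizedModule.zero_mk _).symm⟩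
  | add a b _ _ ha hb =>
    obtain ⟨i, j, m, s, hm, hs, hsx, hd, rfl⟩ := ha
    obtain ⟨i', j', m', s', hm', hs', hsx', hd', rfl⟩ := hb
    have h := fun h : s * s' ∈ x.asHomogeneousIdeal => (x.isPrime.mem_or_mem h).elim hsx hsx'
    have h2 : s' • m ∈ ℳ (j' + i) := SetLike.GradedSMul.smul_mem hs' hm
    have h3 : s • m' ∈ ℳ (j + i') := SetLike.GradedSMul.smul_mem hs hm'
    have e : (LocalizedModule.mk m ⟨s, hsx⟩ : GrTilde.LocMod 𝒜 x) + LocalizedModule.mk m' ⟨s', hsx'⟩ =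
        (LocalizedModule.mk (s' • m + s • m') ⟨s * s', h⟩ : GrTilde.LocMod 𝒜 x) := by
      rw [LocalizedModule.mk_add_mk]; rfl
    rcases hd with hd | hd
    · rcases hd' with hd' | hd'
      · exact ⟨j' + i, j + j', _, _, add_mem h2 ((show j + i' = j' + i by omega) ▸ h3),
          SetLike.mul_mem_graded hs hs', h, Or.inl (by push_cast; omega), e⟩
      · exact ⟨j' + i, j + j', _, _, by rw [hd', smul_zero, add_zero]; exact h2,
          SetLike.mul_mem_graded hs hs', h, Or.inl (by push_cast; omega), e⟩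
    · rcases hd' with hd' | hd'
      · exact ⟨j + i', j + j', _, _, by rw [hd, smul_zero, zero_add]; exact h3,
          SetLike.mul_mem_graded hs hs', h, Or.inl (by push_cast; omega), e⟩
      · exact ⟨0, j + j', _, _, by rw [hd, hd', smul_zero, smul_zero, add_zero]; exact zero_mem _,
          SetLike.mul_mem_graded hs hs', h, Or.inr (by rw [hd, hd', smul_zero, smul_zero, add_zero]), e⟩
  | smul c a _ ha =>
    obtain ⟨i, j, m, s, hm, hs, hsx, hd, rfl⟩ := ha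
    obtain ⟨⟨k, ⟨r, hr⟩, ⟨t, ht⟩, htx⟩, rfl⟩ := HomogeneousLocalization.mk_surjective c
    refine ⟨k + i, k + j, r • m, t * s, SetLike.GradedSMul.smul_mem hr hm, SetLike.mul_mem_graded ht hs,
      fun h => (x.isPrime.mem_or_mem h).elim htx hsx, ?_, ?_⟩
    · rcases hd with hd | hd
      · exact Or.inl (by push_cast; omega)
      · exact Or.inr (by rw [hd, smul_zero])
    · rw [GrTilde.a0_smul_def, HomogeneousLocalization.val_mk, LocalizedModule.mk_smul_mk]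
      rfl

theorem stalkToFiber_bijective (n : ℤ) (p : ProjectiveSpectrum 𝒜) :
    Function.Bijective (TopCat.stalkToFiber (GrTilde.isLocFrac 𝒜 ℳ n) p) := by
  refine ⟨TopCat.stalkToFiber_injective (GrTilde.isLocFrac 𝒜 ℳ n) p ?_, TopCat.stalkToFiber_surjective (GrTilde.isLocFrac 𝒜 ℳ n) p ?_⟩
  · intro U V fU hU fV hV e
    obtain ⟨Wa, ha, ia, i, j, m, s, hnin, hd, wa⟩ := hU ⟨p, U.2⟩
    obtain ⟨Wb, hb, ib, i', j', m', s', hnin', hd', wb⟩ := hV ⟨p, V.2⟩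
    replace hd : (i : ℤ) = j + n ∨ m.1 = 0 := hd
    replace hd' : (i' : ℤ) = j' + n ∨ m'.1 = 0 := hd'
    have e1 : (LocalizedModule.mk m.1 ⟨s.1, hnin ⟨p, ha⟩⟩ : GrTilde.LocMod 𝒜 p) =
        LocalizedModule.mk m'.1 ⟨s'.1, hnin' ⟨p, hb⟩⟩ :=
      (wa ⟨p, ha⟩).symm.trans ((congrArg Subtype.val e).trans (wb ⟨p, hb⟩))
    have h1 : s'.1 • m.1 ∈ ℳ (j' + i) := SetLike.GradedSMul.smul_mem s'.2 m.2
    have h2 : s.1 • m'.1 ∈ ℳ (j + i') := SetLike.GradedSMul.smul_mem s.2 m'.2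
    obtain ⟨q, h1', h2'⟩ : ∃ q, s'.1 • m.1 ∈ ℳ q ∧ s.1 • m'.1 ∈ ℳ q := by
      rcases hd with h | h
      · rcases hd' with h' | h'
        · exact ⟨_, h1, (show j + i' = j' + i by omega) ▸ h2⟩
        · exact ⟨_, h1, by rw [h', smul_zero]; exact zero_mem _⟩
      · exact ⟨_, by rw [h, smul_zero]; exact zero_mem _, h2⟩
    obtain ⟨k, v, hv, hvx, hv0⟩ := exists_homogeneous_smul_eq_zero 𝒜 ℳ (x := p) (sub_mem h1' h2')
      (s := 1) (by
        obtain ⟨w, hw⟩ := LocalizedModule.mk_eq.mp e1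
        rw [← LocalizedModule.zero_mk 1, LocalizedModule.mk_eq]
        refine ⟨w, ?_⟩
        simp only [Submonoid.smul_def, OneMemClass.coe_one, one_smul] at hw ⊢
        rw [smul_sub, sub_eq_zero.mpr hw, smul_zero])
    let D : Opens (ProjectiveSpectrum.top 𝒜) := ProjectiveSpectrum.basicOpen 𝒜 v
    refine ⟨⟨(Wa ⊓ Wb) ⊓ D, ⟨⟨ha, hb⟩, hvx⟩⟩,
      homOfLE ((inf_le_left.trans inf_le_left).trans ia.le), homOfLE ((inf_le_left.trans inf_le_right).trans ib.le),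
      fun w => Subtype.ext ?_⟩
    refine (wa ⟨w.1, w.2.1.1⟩).trans (Eq.trans ?_ (wb ⟨w.1, w.2.1.2⟩).symm)
    refine LocalizedModule.mk_eq.mpr ⟨⟨v, w.2.2⟩, ?_⟩
    simp only [Submonoid.smul_def]
    rwa [smul_sub, sub_eq_zero] at hv0
  · intro q
    obtain ⟨i, j, m, s, hm, hs, hsx, hd, hq⟩ := exists_frac 𝒜 ℳ n p q
    refine ⟨⟨ProjectiveSpectrum.basicOpen 𝒜 s, hsx⟩, fun y => ⟨LocalizedModule.mk m ⟨s, y.2⟩, ?_⟩, fun y =>
      ⟨ProjectiveSpectrum.basicOpen 𝒜 s, y.2, 𝟙 _, i, j, ⟨m, hm⟩, ⟨s, hs⟩, fun z => z.2, hd, fun _ => rfl⟩,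
      Subtype.ext hq.symm⟩
    rcases hd with h | h
    · exact Submodule.subset_span ⟨i, j, ⟨m, hm⟩, ⟨s, hs⟩, y.2, h, rfl⟩
    · rw [h, LocalizedModule.zero_mk]; exact zero_mem _

end GrTildeLib

end
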