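import Groth.Agent.GrTildeLib.Chart
import Groth.Agent.GrTildeLib.Stalk
import Groth.Agent.ProjTopLib.FG
import Mathlib.RingTheory.Finiteness.Ideal

/-!
# When is the sheaf of a graded module zero
-/

set_option autoImplicit false
universe u

open CategoryTheory CategoryTheory.Limits AlgebraicGeometry TopologicalSpace Opposite TopCat

noncomputable section

namespace GrTildeLib

variable {R A : Type u} [CommRing R] [CommRing A] [Algebra R A] {𝒜 : ℕ → Submodule R A} [GradedAlgebra 𝒜]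
  {M : Type u} [AddCommGroup M] [Module R M] [Module A M] {ℳ : ℕ → Submodule R M} [SetLike.GradedSMul 𝒜 ℳ]
  [DirectSum.Decomposition ℳ] {n : ℤ}

theorem isZero_of_sections (h : ∀ (V : (Proj 𝒜).Opens) (t : Γ(GrTilde.tilde 𝒜 ℳ n, V)), t = 0) :
    IsZero (GrTilde.tilde 𝒜 ℳ n) := by
  rw [IsZero.iff_id_eq_zero]
  apply Scheme.Modules.hom_ext
  intro V
  refine ConcreteCategory.hom_ext _ _ fun t => ?_
  exact (h V t).trans (h V _).symm

theorem sections_eq_zero (h : IsZero (GrTilde.tilde 𝒜 ℳ n)) {V : (Proj 𝒜).Opens}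
    (t : Γ(GrTilde.tilde 𝒜 ℳ n, V)) : t = 0 :=
  congr_arg (fun φ : GrTilde.tilde 𝒜 ℳ n ⟶ GrTilde.tilde 𝒜 ℳ n => φ.app V t)
    ((IsZero.iff_id_eq_zero _).mp h)

theorem isZero_of_nilpotent_action
    (h : ∀ (z : M) (d : ℕ) (f : A), 0 < d → f ∈ 𝒜 d → ∃ k : ℕ, f ^ k • z = 0) (n : ℤ) :
    IsZero (GrTilde.tilde 𝒜 ℳ n) := by
  refine isZero_of_sections fun V t => sec_ext fun x => ?_
  obtain ⟨W, hxW, hW, i, j, m, s, -, -, hnin, -, hval⟩ := val_exists t x
  obtain ⟨d, f, hd, hf, hfx⟩ := ProjTopLib.exists_pos_not_mem 𝒜 x.1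
  obtain ⟨k, hk⟩ := h m d f hd hf
  refine (hval ⟨x.1, hxW⟩).trans ?_
  rw [val_zero, ← LocalizedModule.zero_mk 1, LocalizedModule.mk_eq]
  refine ⟨⟨f ^ k, fun h => hfx (x.1.isPrime.mem_of_pow_mem k h)⟩, ?_⟩
  simp only [Submonoid.smul_def, OneMemClass.coe_one, one_smul, smul_zero, hk]

open scoped Classical in
theorem pow_smul_eq_zero_of_components {z : M} {f : A}
    (h : ∀ i, ∃ k : ℕ, f ^ k • (DirectSum.decompose ℳ z i : M) = 0) : ∃ k : ℕ, f ^ k • z = 0 := by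
  choose k hk using h
  refine ⟨(DirectSum.decompose ℳ z).support.sup k,
    (congrArg (f ^ (DirectSum.decompose ℳ z).support.sup k • ·) (DirectSum.sum_support_decompose ℳ z).symm).trans ?_⟩
  rw [Finset.smul_sum]
  refine Finset.sum_eq_zero fun i hi => ?_
  rw [← Nat.sub_add_cancel (Finset.le_sup (f := k) hi), pow_add, mul_smul]
  erw [hk i]
  rw [smul_zero]

theorem nilpotent_action_of_isZero (hgen : (HomogeneousIdeal.irrelevant 𝒜).toIdeal = Ideal.span (𝒜 1 : Set A))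
    (h : IsZero (GrTilde.tilde 𝒜 ℳ 0)) (z : M) {d : ℕ} {f : A} (hd : 0 < d) (hf : f ∈ 𝒜 d) :
    ∃ k : ℕ, f ^ k • z = 0 := by
  classical
  refine pow_smul_eq_zero_of_components (ℳ := ℳ) fun i =>
    exists_pow_smul_eq_zero 𝒜 ℳ hd hf (DirectSum.decompose ℳ z i).2 fun x hx => ?_
  obtain ⟨g, hg, hgx⟩ : ∃ g ∈ 𝒜 1, g ∉ x.asHomogeneousIdeal := by
    by_contra hne
    push Not at hne
    exact x.not_irrelevant_le fun a ha => (Ideal.span_le.mpr hne) (hgen.le ha)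
  have hgi : g ^ i ∈ 𝒜 i := by simpa using SetLike.pow_mem_graded i hg
  have e := congrArg (fun t => val t (⟨x, hgx⟩ : Proj.basicOpen 𝒜 g))
    (sections_eq_zero h (fracSec (n := 0) (V := Proj.basicOpen 𝒜 g) (DirectSum.decompose ℳ z i).2 hgi
      (by simp) (fun y => pow_nin y i)))
  exact ⟨_, e⟩

theorem exists_pow_irrelevant_smul_eq_zero (hfg : (HomogeneousIdeal.irrelevant 𝒜).toIdeal.FG) (z : M)
    (h : ∀ (d : ℕ) (f : A), 0 < d → f ∈ 𝒜 d → ∃ k : ℕ, f ^ k • z = 0) :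
    ∃ N : ℕ, ∀ a ∈ (HomogeneousIdeal.irrelevant 𝒜).toIdeal ^ N, a • z = 0 := by
  classical
  have hle : (HomogeneousIdeal.irrelevant 𝒜).toIdeal ≤ Ideal.radical (LinearMap.toSpanSingleton A M z).ker := by
    intro a ha
    rw [← DirectSum.sum_support_decompose 𝒜 a]
    refine Ideal.sum_mem _ fun k _ => ?_
    rcases Nat.eq_zero_or_pos k with rfl | hk
    · rw [ProjTopLib.decompose_zero_of_mem_irrelevant 𝒜 ha]; exact Ideal.zero_mem _
    · exact h k _ hk (SetLike.coe_mem _)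
  obtain ⟨N, hN⟩ := Ideal.exists_pow_le_of_le_radical_of_fg hle hfg
  exact ⟨N, fun a ha => hN ha⟩

theorem exists_tail_gens (hTF : ∃ n : ℕ, (Submodule.span A (⋃ k ∈ Set.Ici n, (ℳ k : Set M))).FG) :
    ∃ (n : ℕ) (s : Finset M), (∀ z ∈ s, ∃ k, n ≤ k ∧ z ∈ ℳ k) ∧
      ∀ k, n ≤ k → ∀ m ∈ ℳ k, m ∈ Submodule.span A (s : Set M) := by
  obtain ⟨n, hn⟩ := hTF
  obtain ⟨s, hs, he⟩ := (Submodule.fg_span_iff_fg_span_finset_subset _).mp hn
  refine ⟨n, s, fun z hz => ?_, fun k hk m hm => he ▸ Submodule.subset_span (Set.mem_biUnion hk hm)⟩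
  obtain ⟨k, hk, hzk⟩ := Set.mem_iUnion₂.mp (hs hz)
  exact ⟨k, hk, hzk⟩

open scoped Classical in
/-- combinations of homogeneous elements, degree by degree -/
theorem exists_homogeneous_coeff {s : Finset M} {deg : M → ℕ} (hdeg : ∀ z ∈ s, z ∈ ℳ (deg z)) {k : ℕ} {m : M}
    (hm : m ∈ ℳ k) (h : m ∈ Submodule.span A (s : Set M)) :
    ∃ a : M → A, (∀ z ∈ s, deg z ≤ k → a z ∈ 𝒜 (k - deg z)) ∧ m = ∑ z ∈ s with deg z ≤ k, a z • z := by
  obtain ⟨c, -, hc⟩ := Submodule.mem_span_finset.mp h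
  refine ⟨fun z => (DirectSum.decompose 𝒜 (c z) (k - deg z) : A), fun z _ _ => SetLike.coe_mem _, ?_⟩
  rw [← DirectSum.decompose_of_mem_same ℳ hm]
  conv_lhs => rw [← hc, DirectSum.decompose_sum, DFinsupp.finsetSum_apply, Submodule.coe_sum]
  rw [Finset.sum_filter]
  refine Finset.sum_congr rfl fun z hz => ?_
  by_cases hle : deg z ≤ k
  · rw [if_pos hle, ← decompose_smul 𝒜 ℳ (hdeg z hz), Nat.sub_add_cancel hle]
  · rw [if_neg hle]
    induction c z using DirectSum.Decomposition.inductionOn (ℳ := 𝒜) with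
    | zero => simp
    | @homogeneous l a =>
      have h1 : (a : A) • z ∈ ℳ (l + deg z) := SetLike.GradedSMul.smul_mem a.2 (hdeg z hz)
      rw [DirectSum.decompose_of_mem_ne ℳ h1 (by omega)]
    | add a b ha hb => rw [add_smul, DirectSum.decompose_add, DirectSum.add_apply, Submodule.coe_add, ha, hb, add_zero]

theorem isZero_iff_TN (hfg : (HomogeneousIdeal.irrelevant 𝒜).toIdeal.FG)
    (hgen : (HomogeneousIdeal.irrelevant 𝒜).toIdeal = Ideal.span (𝒜 1 : Set A))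
    (hTF : ∃ n : ℕ, (Submodule.span A (⋃ k ∈ Set.Ici n, (ℳ k : Set M))).FG) :
    IsZero (GrTilde.tilde 𝒜 ℳ 0) ↔ ∃ n : ℕ, ∀ k : ℕ, n ≤ k → ℳ k = ⊥ := by
  classical
  constructor
  · intro h
    obtain ⟨n, s, hs, hgens⟩ := exists_tail_gens hTF
    choose N hN using fun z : M => exists_pow_irrelevant_smul_eq_zero (𝒜 := 𝒜) hfg z
      fun d f hd hf => nilpotent_action_of_isZero hgen h z hd hf
    obtain ⟨m₀, hm₀⟩ := ProjTopLib.exists_le_pow 𝒜 hfg (s.sup N)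
    choose! deg hdegn hdegm using hs
    refine ⟨n + m₀ + s.sup deg, fun k hk => eq_bot_iff.mpr fun m hm => ?_⟩
    obtain ⟨a, ha, hsum⟩ := exists_homogeneous_coeff (𝒜 := 𝒜) hdegm hm (hgens k (by omega) m hm)
    rw [Submodule.mem_bot, hsum]
    refine Finset.sum_eq_zero fun z hz => ?_
    obtain ⟨hz, hle⟩ := Finset.mem_filter.mp hz
    have hd : deg z ≤ s.sup deg := Finset.le_sup (f := deg) hz
    exact hN z _ (Ideal.pow_le_pow_right (Finset.le_sup (f := N) hz) (hm₀ (k - deg z) (by omega) (ha z hz hle)))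
  · rintro ⟨n, hn⟩
    refine isZero_of_nilpotent_action (fun z d f hd hf => pow_smul_eq_zero_of_components (ℳ := ℳ) fun i => ?_) 0
    refine ⟨n, (Submodule.mem_bot R).mp ?_⟩
    have h1 : f ^ n • (DirectSum.decompose ℳ z i : M) ∈ ℳ (n • d + i) :=
      SetLike.GradedSMul.smul_mem (SetLike.pow_mem_graded n hf) (DirectSum.decompose ℳ z i).2
    rwa [hn (n • d + i) ((Nat.le_mul_of_pos_right n hd).trans (Nat.le_add_right _ _))] at h1

end GrTildeLib

end
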