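import Groth.Agent.GrTildeLib.MulTwist
import Groth.Agent.GrTildeLib.Vanish
import Groth.Agent.GrTildeLib.FT
import Groth.Agent.ProjClosedLib.Frac
import Groth.Prelude.Def_FlatMod2

/-!
# Global generation of twists
-/

set_option autoImplicit false
universe u

open CategoryTheory CategoryTheory.Limits AlgebraicGeometry TopologicalSpace Opposite TopCat HomogeneousLocalization

noncomputable section

namespace GrTildeLib

section General

variable {X : Scheme.{u}}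

theorem epi_sigma_desc_of_gen {L M : X.Modules} [Coh.IsQCoh M] {I : Type} [Fintype I] (φ : I → (L ⟶ M))
    (h : ∀ x : X, ∃ (D : X.Opens) (_ : IsAffineOpen D) (_ : x ∈ D) (e : Γ(L, D)),
      Submodule.span Γ(X, D) (Set.range fun i => (φ i).app D e) = ⊤) :
    Epi (Sigma.desc φ) := by
  refine Preadditive.epi_of_cancel_zero _ fun {N : X.Modules} (q : M ⟶ N) hq => ?_
  have hi : ∀ i, φ i ≫ q = 0 := fun i => by
    rw [← Sigma.ι_desc φ i, Category.assoc, hq, comp_zero]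
  apply Scheme.Modules.hom_ext
  intro V
  refine ConcreteCategory.hom_ext _ _ fun t => ?_
  have hloc : ∀ p : V, ∃ (W : X.Opens) (hW : W ≤ V), p.1 ∈ W ∧
      q.app W (M.presheaf.map (homOfLE hW).op t) = 0 := by
    intro p
    obtain ⟨D, hD, hpD, e, he⟩ := h p.1
    let s : ULift.{u} I → Γ(M, D) := fun i => (φ i.down).app D e
    have hs : Submodule.span Γ(X, D) (Set.range s) = ⊤ := by
      rw [← he]; congr 1; ext w; simp [s]
    obtain ⟨W, hW, hWD, hpW, c, hc⟩ := QCohLib.genOn_of_span hD s hs (V ⊓ D) inf_le_right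
      (M.presheaf.map (homOfLE inf_le_left).op t) p.1 ⟨p.2, hpD⟩
    rw [QCohLib.map_map'] at hc
    refine ⟨W, hW.trans inf_le_left, hpW, (congrArg (q.app W) hc).trans ?_⟩
    rw [map_sum]
    refine Finset.sum_eq_zero fun i _ => ?_
    rw [QCohLib.app_smul, QCohLib.app_map]
    refine (congrArg (fun z => c i • N.presheaf.map (homOfLE hWD).op z)
      (congrArg (fun ψ : L ⟶ N => ψ.app D e) (hi i.down))).trans ?_
    change c i • N.presheaf.map (homOfLE hWD).op 0 = 0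
    rw [map_zero, smul_zero]
  choose W hW hpW hz using hloc
  refine TopCat.Sheaf.eq_of_locally_eq' ((QCohLib.toAbF X).obj N : TopCat.Sheaf AddCommGrpCat _)
    W V (fun p => homOfLE (hW p)) (fun p hp => Opens.mem_iSup.mpr ⟨⟨p, hp⟩, hpW ⟨p, hp⟩⟩)
    (q.app V t) ((0 : M ⟶ N).app V t) fun p => ?_
  exact (QCohLib.app_map q (homOfLE (hW p)) t).symm.trans ((hz p).trans (map_zero _).symm)

theorem epi_sigma_desc_unitHom {M : X.Modules} [Coh.IsQCoh M] {I : Type} [Fintype I] (s : I → Γ(M, ⊤))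
    (h : ∀ x : X, ∃ (D : X.Opens) (_ : IsAffineOpen D) (_ : x ∈ D),
      Submodule.span Γ(X, D) (Set.range fun i => M.presheaf.map (homOfLE (le_top : D ≤ ⊤)).op (s i)) = ⊤) :
    Epi (Sigma.desc fun i => QCohLib.unitHom M (s i)) := by
  refine epi_sigma_desc_of_gen _ fun x => ?_
  obtain ⟨D, hD, hx, he⟩ := h x
  refine ⟨D, hD, hx, (1 : Γ(X, D)), ?_⟩
  rw [← he]
  refine congrArg _ (congrArg Set.range (funext fun i => ?_))
  rw [QCohLib.unitHom_app, one_smul]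

end General

variable {R A : Type u} [CommRing R] [CommRing A] [Algebra R A] {𝒜 : ℕ → Submodule R A} [GradedAlgebra 𝒜]
  {M : Type u} [AddCommGroup M] [Module R M] [Module A M] {ℳ : ℕ → Submodule R M} [SetLike.GradedSMul 𝒜 ℳ]
  [DirectSum.Decomposition ℳ]

/-- homogeneous generators -/
theorem exists_homogeneous_module_gens [Module.Finite A M] :
    ∃ (T : Finset M) (deg : M → ℕ), (∀ z ∈ T, z ∈ ℳ (deg z)) ∧ Submodule.span A (T : Set M) = ⊤ := by
  classical
  obtain ⟨G, hG⟩ := Module.finite_def.mp ‹Module.Finite A M›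
  let T : Finset M := G.biUnion fun z => (DirectSum.decompose ℳ z).support.image fun k => (DirectSum.decompose ℳ z k : M)
  have hT : ∀ z ∈ T, ∃ k, z ∈ ℳ k := fun z hz => by
    simp only [T, Finset.mem_biUnion, Finset.mem_image] at hz
    obtain ⟨w, -, k, -, rfl⟩ := hz
    exact ⟨k, SetLike.coe_mem _⟩
  choose! deg hdeg using hT
  refine ⟨T, deg, hdeg, eq_top_iff.mpr (hG.ge.trans (Submodule.span_le.mpr fun z hz => ?_))⟩
  rw [SetLike.mem_coe, ← DirectSum.sum_support_decompose ℳ z]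
  refine Submodule.sum_mem _ fun k hk => Submodule.subset_span ?_
  simp only [T, Finset.coe_biUnion, Finset.coe_image, Set.mem_iUnion, Set.mem_image]
  exact ⟨z, hz, k, hk, rfl⟩

open scoped Classical in
/-- sections over a chart are spanned by the generators -/
theorem span_chart {g : A} (hg : g ∈ 𝒜 1) {T : Finset M} {deg : M → ℕ} (hdeg : ∀ z ∈ T, z ∈ ℳ (deg z))
    (hT : Submodule.span A (T : Set M) = ⊤) {q : ℤ} (a b : M → ℕ)
    (hab : ∀ z ∈ T, (deg z : ℤ) + a z = b z + q) (w : M → Γ(GrTilde.tilde 𝒜 ℳ q, Proj.basicOpen 𝒜 g))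
    (hw : ∀ z ∈ T, ∀ y, val (w z) y = LocalizedModule.mk (g ^ a z • z) ⟨g ^ b z, pow_nin y (b z)⟩) :
    Submodule.span Γ(Proj 𝒜, Proj.basicOpen 𝒜 g) (w '' (T : Set M)) = ⊤ := by
  refine eq_top_iff.mpr fun t _ => ?_
  obtain ⟨k, i, m, hm, hi, ht⟩ := exists_eq_frac one_pos hg t
  obtain ⟨c, hc, hsum⟩ := exists_homogeneous_coeff (𝒜 := 𝒜) hdeg hm (hT.ge Submodule.mem_top)
  let co : M → Γ(Proj 𝒜, Proj.basicOpen 𝒜 g) := fun z =>
    if h : z ∈ T ∧ deg z ≤ i then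
      ProjClosedLib.fr 𝒜 hg (show c z * g ^ b z ∈ 𝒜 (k + a z) by
        have e : (i - deg z) + b z = k + a z := by have := hab z h.1; omega
        rw [← e]
        exact SetLike.mul_mem_graded (hc z h.1 h.2) (by simpa using SetLike.pow_mem_graded (b z) hg))
    else 0
  have key : t = ∑ z ∈ T.filter (fun z => deg z ≤ i), co z • w z := by
    refine sec_ext fun y => ?_
    rw [val_sum, ht y, hsum, mk_sum]
    refine Finset.sum_congr rfl fun z hz => ?_
    obtain ⟨hzT, hle⟩ := Finset.mem_filter.mp hz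
    simp only [co, dif_pos (And.intro hzT hle)]
    rw [val_smul, hw z hzT y]
    erw [val_awayToSection, LocalizedModule.mk_smul_mk]
    refine mk_congr ?_
    change (g ^ (k + a z) * g ^ b z) • c z • z = g ^ k • (c z * g ^ b z) • g ^ a z • z
    simp only [smul_smul, pow_add]
    congr 1
    ring
  rw [key]
  exact Submodule.sum_mem _ fun z hz => Submodule.smul_mem _ _
    (Submodule.subset_span ⟨z, (Finset.mem_filter.mp hz).1, rfl⟩)

theorem cover_of_span (s : Finset A) (hs : (HomogeneousIdeal.irrelevant 𝒜).toIdeal = Ideal.span (s : Set A))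
    (x : Proj 𝒜) : ∃ f ∈ s, f ∉ x.asHomogeneousIdeal := by
  by_contra hne
  push Not at hne
  exact x.not_irrelevant_le fun a ha => (Ideal.span_le.mpr hne) (hs.le ha)

omit [DirectSum.Decomposition ℳ] in
theorem mulSec_smul_right {p n q : ℤ} (hq : p + n = q) {V : (Proj 𝒜).Opens} (r : Γ(Proj 𝒜, V))
    (t : Γ(GrTilde.tilde 𝒜 ℳ p, V)) (w : Γ(Twist.twist 𝒜 n, V)) : mulSec hq t (r • w) = r • mulSec hq t w :=
  sec_ext fun x => by simp only [val_mulSec, val_smul, TwistLib.val_smul, mul_smul]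

variable [Module.Finite A M]

variable (ℳ) in
theorem exists_epi_free (s : Finset A) (hs1 : ∀ f ∈ s, f ∈ 𝒜 1)
    (hs : (HomogeneousIdeal.irrelevant 𝒜).toIdeal = Ideal.span (s : Set A)) :
    ∃ n₀ : ℕ, ∀ n : ℕ, n₀ ≤ n →
      ∃ (k : ℕ) (p : FlatMod.freeMod (Proj 𝒜) k ⟶ GrTilde.tilde 𝒜 ℳ (n : ℤ)), Epi p := by
  classical
  obtain ⟨T, deg, hdeg, hT⟩ := exists_homogeneous_module_gens (A := A) (ℳ := ℳ)
  refine ⟨T.sup deg, fun n hn => ?_⟩
  let I := {p : A × M // p ∈ s ×ˢ T}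
  let sec : I → Γ(GrTilde.tilde 𝒜 ℳ (n : ℤ), ⊤) := fun p =>
    (GrTilde.globalOf 𝒜 ℳ (i := n) ⟨p.1.1 ^ (n - deg p.1.2) • p.1.2, by
      have hp := Finset.mem_product.mp p.2
      have e : (n - deg p.1.2) + deg p.1.2 = n :=
        Nat.sub_add_cancel ((Finset.le_sup (f := deg) hp.2).trans hn)
      have h1 : p.1.1 ^ (n - deg p.1.2) • p.1.2 ∈ ℳ ((n - deg p.1.2) + deg p.1.2) :=
        SetLike.GradedSMul.smul_mem (A := 𝒜) (by simpa using SetLike.pow_mem_graded (n - deg p.1.2) (hs1 _ hp.1))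
          (hdeg _ hp.2)
      rwa [e] at h1⟩ : GrTilde.sect 𝒜 ℳ (n : ℤ) (op ⊤))
  let e := Fintype.equivFin I
  have := isQCoh_tilde (𝒜 := 𝒜) (ℳ := ℳ) (n : ℤ)
  refine ⟨Fintype.card I, Sigma.desc fun i => QCohLib.unitHom _ (sec (e.symm i)),
    epi_sigma_desc_unitHom _ fun x => ?_⟩
  obtain ⟨f, hf, hfx⟩ := cover_of_span s hs x
  refine ⟨Proj.basicOpen 𝒜 f, Proj.isAffineOpen_basicOpen 𝒜 f (hs1 f hf) one_pos, hfx, ?_⟩
  let w : M → Γ(GrTilde.tilde 𝒜 ℳ (n : ℤ), Proj.basicOpen 𝒜 f) := fun z =>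
    if h : z ∈ T then (GrTilde.tilde 𝒜 ℳ (n : ℤ)).presheaf.map (homOfLE le_top).op
      (sec ⟨(f, z), Finset.mem_product.mpr ⟨hf, h⟩⟩) else 0
  have h1 := span_chart (hs1 f hf) hdeg hT (q := (n : ℤ)) (fun z => n - deg z) (fun _ => 0)
    (fun z hz => by have := (Finset.le_sup (f := deg) hz).trans hn; push_cast [Nat.cast_sub this]; ring) w
    (fun z hz y => by
      simp only [w, dif_pos hz]
      rw [val_res]
      exact congrArg (LocalizedModule.mk _) (Subtype.ext (pow_zero f).symm))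
  refine eq_top_iff.mpr (h1.ge.trans (Submodule.span_le.mpr ?_))
  rintro _ ⟨z, hz, rfl⟩
  refine Submodule.subset_span ⟨e ⟨(f, z), Finset.mem_product.mpr ⟨hf, hz⟩⟩, ?_⟩
  simp only [w, dif_pos (Finset.mem_coe.mp hz), Equiv.symm_apply_apply]

variable (ℳ) in
theorem exists_epi_twists (s : Finset A) (hs1 : ∀ f ∈ s, f ∈ 𝒜 1)
    (hs : (HomogeneousIdeal.irrelevant 𝒜).toIdeal = Ideal.span (s : Set A)) :
    ∃ n₀ : ℕ, ∀ n : ℕ, n₀ ≤ n →
      ∃ (k : ℕ) (p : (∐ fun _ : Fin k => Twist.twist 𝒜 (-(n : ℤ))) ⟶ GrTilde.tilde 𝒜 ℳ 0), Epi p := by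
  classical
  obtain ⟨T, deg, hdeg, hT⟩ := exists_homogeneous_module_gens (A := A) (ℳ := ℳ)
  refine ⟨T.sup deg, fun n hn => ?_⟩
  let I := {p : A × M // p ∈ s ×ˢ T}
  let g0 : I → Γ(GrTilde.tilde 𝒜 ℳ (n : ℤ), ⊤) := fun p =>
    (GrTilde.globalOf 𝒜 ℳ (i := n) ⟨p.1.1 ^ (n - deg p.1.2) • p.1.2, by
      have hp := Finset.mem_product.mp p.2
      have e : (n - deg p.1.2) + deg p.1.2 = n :=
        Nat.sub_add_cancel ((Finset.le_sup (f := deg) hp.2).trans hn)
      have h1 : p.1.1 ^ (n - deg p.1.2) • p.1.2 ∈ ℳ ((n - deg p.1.2) + deg p.1.2) :=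
        SetLike.GradedSMul.smul_mem (A := 𝒜) (by simpa using SetLike.pow_mem_graded (n - deg p.1.2) (hs1 _ hp.1))
          (hdeg _ hp.2)
      rwa [e] at h1⟩ : GrTilde.sect 𝒜 ℳ (n : ℤ) (op ⊤))
  let ψ : I → (Twist.twist 𝒜 (-(n : ℤ)) ⟶ GrTilde.tilde 𝒜 ℳ 0) := fun p =>
    ⟨PresheafOfModules.homMk (M₁ := (Twist.twist 𝒜 (-(n : ℤ))).val) (M₂ := (GrTilde.tilde 𝒜 ℳ 0).val)
      { app := fun W => AddCommGrpCat.ofHom (AddMonoidHom.mk'
          (fun t : Γ(Twist.twist 𝒜 (-(n : ℤ)), W.unop) => mulSec (q := 0) (by omega)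
            ((GrTilde.tilde 𝒜 ℳ (n : ℤ)).presheaf.map (homOfLE (le_top : W.unop ≤ ⊤)).op (g0 p)) t)
          (fun t t' => sec_ext fun x => by
            refine (congrArg (· • _) (twistVal_add t t' x)).trans ?_
            rw [add_smul]
            rfl))
        naturality := fun W W' j => by ext t; exact sec_ext fun x => rfl }
      (fun W r t => mulSec_smul_right (V := W.unop) (show (n : ℤ) + -(n : ℤ) = 0 by omega) r _ t)⟩
  let e := Fintype.equivFin I
  have := isQCoh_tilde (𝒜 := 𝒜) (ℳ := ℳ) 0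
  refine ⟨Fintype.card I, Sigma.desc fun i => ψ (e.symm i), epi_sigma_desc_of_gen _ fun x => ?_⟩
  obtain ⟨f, hf, hfx⟩ := cover_of_span s hs x
  have hfn : f ^ n ∈ 𝒜 n := by simpa using SetLike.pow_mem_graded n (hs1 f hf)
  let gen : Γ(Twist.twist 𝒜 (-(n : ℤ)), Proj.basicOpen 𝒜 f) :=
    TwistLib.fracSec (SetLike.GradedOne.one_mem (A := 𝒜)) hfn (by simp) (fun y => pow_nin y n)
  refine ⟨Proj.basicOpen 𝒜 f, Proj.isAffineOpen_basicOpen 𝒜 f (hs1 f hf) one_pos, hfx, gen, ?_⟩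
  let w : M → Γ(GrTilde.tilde 𝒜 ℳ 0, Proj.basicOpen 𝒜 f) := fun z =>
    if h : z ∈ T then (ψ ⟨(f, z), Finset.mem_product.mpr ⟨hf, h⟩⟩).app (Proj.basicOpen 𝒜 f) gen else 0
  have h1 := span_chart (hs1 f hf) hdeg hT (q := 0) (fun z => n - deg z) (fun _ => n)
    (fun z hz => by have := (Finset.le_sup (f := deg) hz).trans hn; push_cast [Nat.cast_sub this]; ring) w
    (fun z hz y => by
      simp only [w, dif_pos hz]
      change TwistLib.val gen y • _ = _
      rw [val_res]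
      exact (LocalizedModule.mk_smul_mk _ _ _ _).trans (mk_congr (by simp)))
  refine eq_top_iff.mpr (h1.ge.trans (Submodule.span_le.mpr ?_))
  rintro _ ⟨z, hz, rfl⟩
  refine Submodule.subset_span ⟨e ⟨(f, z), Finset.mem_product.mpr ⟨hf, hz⟩⟩, ?_⟩
  simp only [w, dif_pos (Finset.mem_coe.mp hz), Equiv.symm_apply_apply]

end GrTildeLib

end
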